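import Cfsg.Agent.Lib.ChevCover.Central
import Cfsg.Agent.Lib.ChevStr.Mem
import Cfsg.Prelude.Def_SteinbergCover

/-!
The group presented by (R1), (R2) as a cover of the Chevalley group, and the neighbour condition
for the seven tabulated types.
-/

set_option autoImplicit false

namespace CfsgLib.ChevCover

open Cfsg.Lie CfsgLib.ChevStr
open Cover
open scoped MatrixGroups

theorem hasNeighbours {D : ChevalleyDatum}
    (hD : D ∈ [chevG2, chevB2, chevD4, chevF4, chevE6, chevE7, chevE8]) : HasNeighbours D := by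
  simp only [List.mem_cons, List.not_mem_nil, or_false] at hD
  rcases hD with rfl | rfl | rfl | rfl | rfl | rfl | rfl <;> unfold HasNeighbours <;> decide +kernel

variable {D : ChevalleyDatum} {F : Type*} [Field F] (C : ChevCore D F)

/-- The root elements inside the Chevalley group. -/
def xG (r : ℕ) (t : F) : ↥(D.group F) := ⟨C.xGL r t, C.xGL_mem_group r t⟩

theorem lift_stX (r : ℕ) (t : F) :
    FreeGroup.lift (fun p : Fin D.nroots × F => xG C p.1.val p.2) (D.stX r t) = xG C r t := by
  by_cases h : r < D.nroots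
  · simp [ChevalleyDatum.stX, dif_pos h]
  · rw [ChevalleyDatum.stX, dif_neg h, map_one]
    exact Subtype.ext (C.xGL_of_le (not_lt.1 h) t).symm

theorem lift_stWord (w : List (ℕ × F)) :
    (FreeGroup.lift (fun p : Fin D.nroots × F => xG C p.1.val p.2) (D.stWord w) : GL D.Idx F) =
      C.wordGL w := by
  induction w with
  | nil => simp [ChevalleyDatum.stWord, C.wordGL_nil]
  | cons p w ih =>
    simp only [ChevalleyDatum.stWord, List.map_cons, List.prod_cons] at ih ⊢
    rw [map_mul, Subgroup.coe_mul, ih, lift_stX, C.wordGL_cons]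
    rfl

theorem lift_relsAB :
    ∀ g ∈ D.steinbergRelsAB F,
      FreeGroup.lift (fun p : Fin D.nroots × F => xG C p.1.val p.2) g = 1 := by
  rintro g (⟨r, t, u, hr, rfl⟩ | ⟨r, s, t, u, hr, hs, h1, h2, rfl⟩) <;> apply Subtype.ext
  · simp only [map_mul, map_inv, lift_stX C, Subgroup.coe_mul, Subgroup.coe_inv, Subgroup.coe_one]
    simp only [xG]
    rw [← C.xGL_add, mul_inv_cancel]
  · simp only [map_mul, map_inv, lift_stX C, Subgroup.coe_mul, Subgroup.coe_inv, Subgroup.coe_one,
      lift_stWord C]
    simp only [xG]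
    calc (C.xGL s u)⁻¹ * (C.xGL r t)⁻¹ * C.xGL s u * C.xGL r t *
          (C.wordGL (D.commWord F r s t u))⁻¹
        = (C.xGL s u)⁻¹ * (C.xGL r t)⁻¹ * (C.xGL s u * C.xGL r t) *
          (C.wordGL (D.commWord F r s t u))⁻¹ := by group
      _ = 1 := by rw [C.xGL_comm hr hs h1 h2]; group

/-- The projection of the presented group onto the Chevalley group. -/
def coverHom : D.SteinbergCover F →* ↥(D.group F) := PresentedGroup.toGroup (lift_relsAB C)

theorem coverHom_scGen (r : ℕ) (t : F) : coverHom C (D.scGen F r t) = xG C r t := by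
  rw [ChevalleyDatum.scGen]
  exact lift_stX C r t

theorem coverHom_surjective : Function.Surjective (coverHom C) := by
  intro g
  have hle : D.group F ≤ ((coverHom C).range).map (D.group F).subtype :=
    C.group_le fun r t _ => ⟨xG C r t, ⟨D.scGen F r t, coverHom_scGen C r t⟩, rfl⟩
  obtain ⟨h, ⟨z, hz⟩, he⟩ := hle g.2
  exact ⟨z, hz.trans (Subtype.ext he)⟩

/-- The presented group as a cover. -/
def presented : Cover C (D.SteinbergCover F) where
  X := D.scGen F
  θ := (D.group F).subtype.comp (coverHom C)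
  θ_X r t := by rw [MonoidHom.comp_apply, coverHom_scGen]; rfl
  X_add r hr t u := by
    have h := PresentedGroup.one_of_mem (rels := D.steinbergRelsAB F)
      (x := D.stX r t * D.stX r u * (D.stX r (t + u))⁻¹) (Or.inl ⟨r, t, u, hr, rfl⟩)
    rw [map_mul, map_mul, map_inv, mul_inv_eq_one] at h
    exact h
  X_comm r hr s hs h1 h2 t u := by
    have h := PresentedGroup.one_of_mem (rels := D.steinbergRelsAB F)
      (Or.inr ⟨r, s, t, u, hr, hs, h1, h2, rfl⟩ :
        (D.stX s u)⁻¹ * (D.stX r t)⁻¹ * D.stX s u * D.stX r t *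
          (D.stWord (D.commWord F r s t u))⁻¹ ∈ D.steinbergRelsAB F)
    simp only [map_mul, map_inv, mul_inv_eq_one, ChevalleyDatum.stWord, map_list_prod,
      List.map_map] at h
    simp only [ChevalleyDatum.scGen, Function.comp_def] at h ⊢
    rw [← h]
    group
  gen := by
    rw [← PresentedGroup.closure_range_of]
    congr 1
    ext g
    constructor
    · rintro ⟨r, t, rfl⟩
      exact ⟨(r, t), by simp [ChevalleyDatum.scGen, ChevalleyDatum.stX, r.isLt, PresentedGroup.of]⟩
    · rintro ⟨⟨r, t⟩, rfl⟩
      exact ⟨r, t, by simp [ChevalleyDatum.scGen, ChevalleyDatum.stX, r.isLt, PresentedGroup.of]⟩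

theorem coverHom_ker_le_center (hadj : HasNeighbours D) :
    (coverHom C).ker ≤ Subgroup.center (D.SteinbergCover F) := fun z hz =>
  (presented C).ker_le_center hadj (by
    rw [MonoidHom.mem_ker] at hz ⊢
    show ((coverHom C z : ↥(D.group F)) : GL D.Idx F) = 1
    rw [hz]; rfl)

end CfsgLib.ChevCover
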