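import Cfsg.Prelude.Def_ChevStructure
import Cfsg.Prelude.Def_ChevG2
import Cfsg.Prelude.Def_ChevB2
import Cfsg.Prelude.Def_ChevD4
import Cfsg.Prelude.Def_ChevF4
import Cfsg.Prelude.Def_ChevE6
import Cfsg.Prelude.Def_ChevE7
import Cfsg.Prelude.Def_ChevE8

/-!
Table checks for separating root characters on the torus of a tabulated type.
-/

set_option autoImplicit false

namespace CfsgLib.ChevCover

open Cfsg.Lie

/-- For every fundamental root `p` and root `s ≠ ±p` two fundamental coroots combine to a
cocharacter trivial on `p` with value 1, 2 or 3 on `s` up to sign. -/
def sepCheck (D : ChevalleyDatum) : Bool :=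
  (List.finRange D.rank).all fun i => (List.range D.nroots).all fun s =>
    Nat.beq s (D.simple i.val) || Nat.beq s (D.neg (D.simple i.val)) ||
      (List.finRange D.rank).any fun j =>
        let p := D.simple i.val
        let a := D.cartan i.val p
        let b := D.cartan j.val p
        let g : ℤ := Int.gcd a b
        let m := ((a / g) * D.cartan j.val s - (b / g) * D.cartan i.val s).natAbs
        decide (a / g * g = a) && decide (b / g * g = b) &&
          (Nat.beq m 1 || Nat.beq m 2 || Nat.beq m 3)

/-- Each fundamental root has an odd Cartan integer in its column or is the sum of two commuting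
short roots, each commuting with it, with coefficient `±2`. -/
def selfCheck (D : ChevalleyDatum) : Bool :=
  (List.finRange D.rank).all fun i =>
    ((List.finRange D.rank).any fun j =>
      Nat.beq ((D.cartan j.val (D.simple i.val)).natAbs % 2) 1) ||
    (List.range D.nroots).any fun a => (List.range D.nroots).any fun b =>
      let p := D.simple i.val
      !Nat.beq b a && !Nat.beq b (D.neg a) && !Nat.beq a p && !Nat.beq a (D.neg p) &&
        !Nat.beq b p && !Nat.beq b (D.neg p) &&
        (decide (D.commTerms a b = [(p, (2 : ℤ), 1, 1)]) ||
          decide (D.commTerms a b = [(p, (-2 : ℤ), 1, 1)])) &&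
        decide (D.commTerms p a = []) && decide (D.commTerms p b = [])

theorem sepCheckG2 : sepCheck chevG2 = true := by decide +kernel
theorem sepCheckB2 : sepCheck chevB2 = true := by decide +kernel
theorem sepCheckD4 : sepCheck chevD4 = true := by decide +kernel
theorem sepCheckF4 : sepCheck chevF4 = true := by decide +kernel
theorem sepCheckE6 : sepCheck chevE6 = true := by decide +kernel
theorem sepCheckE7 : sepCheck chevE7 = true := by decide +kernel
theorem sepCheckE8 : sepCheck chevE8 = true := by decide +kernel

theorem selfCheckG2 : selfCheck chevG2 = true := by decide +kernel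
theorem selfCheckB2 : selfCheck chevB2 = true := by decide +kernel
theorem selfCheckD4 : selfCheck chevD4 = true := by decide +kernel
theorem selfCheckF4 : selfCheck chevF4 = true := by decide +kernel
theorem selfCheckE6 : selfCheck chevE6 = true := by decide +kernel
theorem selfCheckE7 : selfCheck chevE7 = true := by decide +kernel
theorem selfCheckE8 : selfCheck chevE8 = true := by decide +kernel

end CfsgLib.ChevCover
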