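import Cfsg.Agent.Lib.ChevCover.Universal
import Cfsg.Agent.Lib.ChevCover.Instance
import Cfsg.Agent.Lib.ChevCover.SepTables
import Cfsg.Agent.Lib.SteinbergPerfect.Main

/-!
Universality of the group presented by (R1), (R2) over a field with more than four elements.
-/

set_option autoImplicit false

namespace CfsgLib.ChevCover

open Cfsg.Lie CfsgLib.ChevStr
open Cover
open scoped MatrixGroups commutatorElement

variable {D : ChevalleyDatum} {F : Type*} [Field F]

/-- A nonzero element which is no `k`-th root of unity. -/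
theorem exists_pow_ne_one (hF : ∃ s : Finset F, 4 < s.card) {k : ℕ} (hk0 : 0 < k) (hk : k ≤ 3) :
    ∃ c : Fˣ, c ^ k ≠ 1 := by
  classical
  obtain ⟨s, hs⟩ := hF
  by_contra hcon
  push Not at hcon
  have hle : (s.erase 0).card ≤ k := by
    have hsub : s.erase 0 ⊆ (Polynomial.nthRoots k (1 : F)).toFinset := by
      intro x hx
      rw [Finset.mem_erase] at hx
      rw [Multiset.mem_toFinset, Polynomial.mem_nthRoots hk0]
      have := congrArg Units.val (hcon (Units.mk0 x hx.1))
      simpa using this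
    exact (Finset.card_le_card hsub).trans
      ((Multiset.toFinset_card_le _).trans (Polynomial.card_nthRoots k 1))
  have := Finset.pred_card_le_card_erase (s := s) (a := (0 : F))
  omega

/-- An element avoiding the roots of `X (1 - X) = 1` and two further values. -/
theorem exists_scalar (hF : ∃ s : Finset F, 4 < s.card) :
    ∃ x : F, x * (1 - x) ≠ 1 ∧ x ≠ 0 ∧ 1 - x ≠ 0 := by
  classical
  obtain ⟨s, hs⟩ := hF
  by_contra hcon
  push Not at hcon
  set p : Polynomial F := Polynomial.X ^ 2 - Polynomial.X + 1 with hp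
  have hdeg : p.natDegree = 2 := by rw [hp]; compute_degree!
  have hp0 : p ≠ 0 := fun h => by rw [h] at hdeg; simp at hdeg
  have hsub : s ⊆ insert 0 (insert 1 p.roots.toFinset) := by
    intro x _
    simp only [Finset.mem_insert, Multiset.mem_toFinset]
    by_cases h0 : x = 0
    · exact Or.inl h0
    by_cases h1 : x = 1
    · exact Or.inr (Or.inl h1)
    refine Or.inr (Or.inr ((Polynomial.mem_roots hp0).2 ?_))
    have h2 : x * (1 - x) = 1 := by
      by_contra h2
      exact sub_ne_zero.2 (Ne.symm h1) (hcon x h2 h0)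
    simp [hp, Polynomial.IsRoot]
    linear_combination -h2
  have h1 := Finset.card_le_card hsub
  have h2 := Finset.card_insert_le (0 : F) (insert 1 p.roots.toFinset)
  have h3 := Finset.card_insert_le (1 : F) p.roots.toFinset
  have h4 := (Multiset.toFinset_card_le p.roots).trans p.card_roots'
  omega

/-- In characteristic two: a square avoiding the same values. -/
theorem exists_square_scalar (hF : ∃ s : Finset F, 4 < s.card) (h2 : (2 : F) = 0) :
    ∃ d : F, d ^ 2 * (1 - d ^ 2) ≠ 1 ∧ d ≠ 0 ∧ 1 - d ≠ 0 ∧ (1 - d) ^ 2 = 1 - d ^ 2 := by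
  obtain ⟨d, hd, hd0, hd1⟩ := exists_scalar hF
  have hsq : (1 - d) ^ 2 = 1 - d ^ 2 := by linear_combination (d ^ 2 - d) * h2
  refine ⟨d, fun h => hd ?_, hd0, hd1, hsq⟩
  have h3 : (d * (1 - d) - 1) ^ 2 = 0 := by
    rw [← hsq] at h
    linear_combination h + (1 - d * (1 - d)) * h2
  exact sub_eq_zero.1 ((pow_eq_zero_iff two_ne_zero).1 h3)

variable {C : ChevCore D F} {Γ : Type*} [Group Γ] (G : Cover C Γ)

/-- Monomial torus elements of `N̄` inside a chamber frame. -/
theorem exists_diag (hadj : HasNeighbours D) {w : Equiv.Perm (Fin D.nroots)} (hw : w ∈ C.hR.weyl)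
    (i j : Fin D.rank) (a b : ℤ) (u : Fˣ) :
    ∃ h c, G.IsDiag h ∧ G.θ h = C.R.torus c ∧
      ∀ q : Fin D.nroots, G.chi c (w q) =
        ((u ^ (a * D.cartan i.val q.val + b * D.cartan j.val q.val) : Fˣ) : F) := by
  set h0 := G.H (C.pRoot i) (u : F) ^ a * G.H (C.pRoot j) (u : F) ^ b with hh0
  have hmem : h0 ∈ G.hbar :=
    mul_mem (zpow_mem (G.H_mem_hbar i u.ne_zero) a) (zpow_mem (G.H_mem_hbar j u.ne_zero) b)
  have hd0 : G.IsDiag h0 := ⟨G.hbar_le_mono hmem, G.nice_hbar hadj hmem⟩
  set c0 : Fin D.rank → Fˣ := Pi.mulSingle i u ^ a * Pi.mulSingle j u ^ b with hc0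
  have hθ0 : G.θ h0 = C.R.torus c0 := by
    simp only [hh0, hc0, map_mul, map_zpow, G.θ_H]
    rw [show C.hGL (C.pRoot i) (u : F) = C.R.torus (Pi.mulSingle i u) from C.hGL_simple i u,
      show C.hGL (C.pRoot j) (u : F) = C.R.torus (Pi.mulSingle j u) from C.hGL_simple j u]
  obtain ⟨n, hn, hnw⟩ := G.exists_mono_rep hadj hw
  have hd := IsDiag.conj G hadj hn hd0
  obtain ⟨c, hc⟩ := IsDiag.exists_torus G hd
  refine ⟨_, c, hd, hc, fun q => ?_⟩
  obtain ⟨x, hx0, hx, -⟩ := G.exists_coeff hadj hn hnw q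
  have h1 := IsDiag.scale G hd hc (w q) (x * 1)
  rw [← hx, show n * h0 * n⁻¹ * (n * G.X q 1 * n⁻¹) * (n * h0 * n⁻¹)⁻¹ =
    n * (h0 * G.X q 1 * h0⁻¹) * n⁻¹ by group, IsDiag.scale G hd0 hθ0, hx] at h1
  have h2 := G.X_injective _ h1
  rw [mul_one, mul_one] at h2
  rw [mul_right_cancel₀ hx0 (show G.chi c (w q) * x = G.chi c0 q * x by rw [← h2, mul_comm])]
  simp only [chi, hc0]
  congr 1
  have hchar : ∀ (m : ℤ) (k : Fin D.rank),
      C.R.torusChar (Pi.mulSingle k u ^ m) (C.R.α q) = u ^ (D.cartan k.val q.val * m) := by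
    intro m k
    rw [show (Pi.mulSingle k u : Fin D.rank → Fˣ) ^ m = Pi.mulSingle k (u ^ m) from
      (map_zpow (MonoidHom.mulSingle (fun _ : Fin D.rank => Fˣ) k) u m).symm,
      C.R.torusChar_single k _ q.isLt, ← zpow_mul, mul_comm]
  rw [C.R.torusChar_mul, hchar, hchar, ← zpow_add, mul_comm (D.cartan i.val _),
    mul_comm (D.cartan j.val _)]

/-- Bundle the separation hypotheses from the table checks. -/
noncomputable def centralExt (hadj : HasNeighbours D) (hF : ∃ s : Finset F, 4 < s.card)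
    (hsep : sepCheck D = true) (hself : selfCheck D = true) (hperf : commutator Γ = ⊤)
    {E : Type*} [Group E] (π : E →* Γ) (hπ : Function.Surjective π)
    (hc : π.ker ≤ Subgroup.center E) : CentralExt G E where
  π := π
  surj := hπ
  central := hc
  perfect := hperf
  adj := hadj
  sep1 r := by
    obtain ⟨w, hw, i, hi⟩ := C.exists_simple_image r
    have hr : w (C.pRoot i) = r := hi
    obtain ⟨u, hu⟩ := exists_pow_ne_one hF two_pos (by norm_num)
    obtain ⟨h, c, hd, hθ, hchi⟩ := exists_diag G hadj hw i i 1 0 u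
    refine ⟨h, c, hd, hθ, ?_⟩
    have h1 := hchi (C.pRoot i)
    rw [hr] at h1
    rw [h1, show (1 : ℤ) * D.cartan i.val (C.pRoot i).val + 0 * D.cartan i.val (C.pRoot i).val
      = ((2 : ℕ) : ℤ) by simp [ChevCore.pRoot, C.hR.cartan_self i], zpow_natCast]
    exact fun h => hu (Units.ext (by simpa using h))
  sep2 r s hsr hsn := by
    obtain ⟨w, hw, i, hi⟩ := C.exists_simple_image r
    have hr : w (C.pRoot i) = r := hi
    obtain ⟨q, rfl⟩ := w.surjective s
    have hq1 : (q : ℕ) ≠ D.simple i.val := fun h => hsr (by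
      rw [show q = C.pRoot i from Fin.ext h, hr])
    have hq2 : (q : ℕ) ≠ D.neg (D.simple i.val) := fun h => hsn (by
      rw [show q = G.negF (C.pRoot i) from Fin.ext h, G.weyl_negF hw, hr])
    simp only [sepCheck, List.all_eq_true, List.mem_finRange, true_implies, List.mem_range,
      Bool.or_eq_true, Nat.beq_eq, List.any_eq_true, true_and, Bool.and_eq_true,
      decide_eq_true_eq] at hsep
    obtain ⟨j, ⟨hga, hgb⟩, hm⟩ := (hsep i q q.isLt).resolve_left fun h => h.elim hq1 hq2
    set A := D.cartan i.val (D.simple i.val)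
    set B := D.cartan j.val (D.simple i.val)
    set g : ℤ := ((Int.gcd A B : ℕ) : ℤ)
    set m : ℤ := (A / g) * D.cartan j.val q.val - (B / g) * D.cartan i.val q.val with hmdef
    have hm3 : 0 < m.natAbs ∧ m.natAbs ≤ 3 := by omega
    obtain ⟨u, hu⟩ := exists_pow_ne_one hF hm3.1 hm3.2
    obtain ⟨h, c, hd, hθ, hchi⟩ := exists_diag G hadj hw i j (-(B / g)) (A / g) u
    refine ⟨h, c, hd, hθ, ?_, ?_⟩
    · have h1 := hchi (C.pRoot i)
      rw [hr] at h1
      rw [h1, show (-(B / g)) * D.cartan i.val (C.pRoot i).val + A / g * D.cartan j.val (C.pRoot i).val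
        = 0 from ?_, zpow_zero, Units.val_one]
      show (-(B / g)) * A + A / g * B = 0
      linear_combination (B / g) * hga - (A / g) * hgb
    · rw [hchi q, show (-(B / g)) * D.cartan i.val q.val + A / g * D.cartan j.val q.val = m by
        rw [hmdef]; ring]
      intro h
      have h' : u ^ m = 1 := Units.ext (by simpa using h)
      rcases Int.natAbs_eq m with he | he <;> rw [he] at h'
      · exact hu (by rwa [zpow_natCast] at h')
      · exact hu (by rwa [zpow_neg, zpow_natCast, inv_eq_one] at h')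
  self r := by
    obtain ⟨w, hw, i, hi⟩ := C.exists_simple_image r
    have hr : w (C.pRoot i) = r := hi
    have hii : D.cartan i.val (C.pRoot i).val = 2 := C.hR.cartan_self i
    have hval : ∀ (j : Fin D.rank) (a b : ℤ) (u : Fˣ) (x : F),
        ((u ^ (a * D.cartan i.val (C.pRoot i).val + b * D.cartan j.val (C.pRoot i).val) : Fˣ) : F)
          = x → ∃ h c, G.IsDiag h ∧ G.θ h = C.R.torus c ∧ G.chi c r = x := by
      intro j a b u x hx
      obtain ⟨h, c, hd, hθ, hchi⟩ := exists_diag G hadj hw i j a b u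
      exact ⟨h, c, hd, hθ, by rw [← hr, hchi, hx]⟩
    simp only [selfCheck, List.all_eq_true, List.mem_finRange, true_implies, Bool.or_eq_true,
      List.any_eq_true, true_and, List.mem_range, Bool.and_eq_true, Bool.not_eq_true',
      Bool.eq_false_iff, ne_eq, Nat.beq_eq, decide_eq_true_eq] at hself
    rcases hself i with ⟨j, hj⟩ | hdec
    · refine Or.inl ?_
      set o : ℤ := D.cartan j.val (C.pRoot i).val with ho
      have hodd : o % 2 ≠ 0 := by
        have : (D.cartan j.val (D.simple i.val)).natAbs % 2 = 1 := hj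
        simp only [ho, ChevCore.pRoot]; omega
      obtain ⟨x, hx1, hx0, hy0⟩ := exists_scalar hF
      refine ⟨x, hx1, hx0, hy0, ?_, ?_⟩
      · refine hval j (-(o / 2)) 1 (Units.mk0 x hx0) x ?_
        rw [hii, ← ho, show -(o / 2) * 2 + 1 * o = (1 : ℤ) by omega, zpow_one, Units.val_mk0]
      · refine hval j (-(o / 2)) 1 (Units.mk0 (1 - x) hy0) (1 - x) ?_
        rw [hii, ← ho, show -(o / 2) * 2 + 1 * o = (1 : ℤ) by omega, zpow_one, Units.val_mk0]
    · by_cases h2 : (2 : F) = 0
      · refine Or.inl ?_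
        obtain ⟨d, hd, hd0, hd1, hsq⟩ := exists_square_scalar hF h2
        refine ⟨d ^ 2, hd, pow_ne_zero 2 hd0, hsq ▸ pow_ne_zero 2 hd1, ?_, ?_⟩
        · refine hval i 1 0 (Units.mk0 d hd0) _ ?_
          rw [hii, show (1 : ℤ) * 2 + 0 * 2 = ((2 : ℕ) : ℤ) by norm_num, zpow_natCast]
          simp
        · refine hval i 1 0 (Units.mk0 (1 - d) hd1) _ ?_
          rw [hii, show (1 : ℤ) * 2 + 0 * 2 = ((2 : ℕ) : ℤ) by norm_num, zpow_natCast]
          simp [hsq]
      · refine Or.inr fun t => ?_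
        obtain ⟨a, ha, b, hb, h⟩ := hdec
        obtain ⟨⟨⟨⟨⟨⟨⟨⟨hba, hbna⟩, hap⟩, hanp⟩, hbp⟩, hbnp⟩, hterm⟩, hpa⟩, hpb⟩ := h
        obtain ⟨k, hk, hterms⟩ : ∃ k : ℤ, (k : F) ≠ 0 ∧
            D.commTerms a b = [(D.simple i.val, k, 1, 1)] := by
          rcases hterm with h | h
          · exact ⟨2, by simpa using h2, h⟩
          · exact ⟨-2, by simpa using h2, h⟩
        obtain ⟨n, hn, hnw⟩ := G.exists_mono_rep hadj hw
        obtain ⟨x, hx0, hx, -⟩ := G.exists_coeff hadj hn hnw (C.pRoot i)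
        rw [hr] at hx
        have hcomm : ∀ (y : ℕ) (hy : y < D.nroots), D.simple i.val ≠ y →
            y ≠ D.neg (D.simple i.val) → D.commTerms (D.simple i.val) y = [] → ∀ u v,
            Commute (G.X (D.simple i.val) u) (G.X y v) := by
          intro y hy h1 h2 h3 u v
          have h4 := G.X_comm _ (C.R.simple_lt i) y hy (Ne.symm h1) h2 u v
          simp only [ChevalleyDatum.commWord, h3, List.map_nil, List.prod_nil, mul_one] at h4
          exact h4.symm
        set t0 := t / x with ht0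
        have hfac : G.X (D.simple i.val) t0 =
            ⁅(G.X b 1)⁻¹, (G.X a (-(t0 / (k : F))))⁻¹⁆ := by
          have h4 := G.X_comm a ha b hb hba hbna (-(t0 / (k : F))) 1
          simp only [ChevalleyDatum.commWord, hterms, List.map_cons, List.map_nil, List.prod_cons,
            List.prod_nil, mul_one, neg_neg, pow_one, mul_div_cancel₀ _ hk] at h4
          rw [commutatorElement_def, inv_inv, inv_inv, mul_assoc, h4]
          group
        refine ⟨n * (G.X b 1)⁻¹ * n⁻¹, n * (G.X a (-(t0 / (k : F))))⁻¹ * n⁻¹, ?_, fun u => ?_⟩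
        · rw [show ⁅n * (G.X b 1)⁻¹ * n⁻¹, n * (G.X a (-(t0 / (k : F))))⁻¹ * n⁻¹⁆ =
            n * ⁅(G.X b 1)⁻¹, (G.X a (-(t0 / (k : F))))⁻¹⁆ * n⁻¹ by
              simp only [commutatorElement_def]; group, ← hfac,
            show D.simple i.val = (C.pRoot i : ℕ) from rfl, hx, ht0, mul_div_cancel₀ t hx0]
        · have h5 : G.X r u = MulAut.conj n (G.X (D.simple i.val) (u / x)) := by
            rw [MulAut.conj_apply, show D.simple i.val = (C.pRoot i : ℕ) from rfl, hx,
              mul_div_cancel₀ u hx0]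
          rw [h5]
          exact ⟨((hcomm b hb (Ne.symm hbp) hbnp hpb _ _).inv_right).map (MulAut.conj n).toMonoidHom,
            ((hcomm a ha (Ne.symm hap) hanp hpa _ _).inv_right).map (MulAut.conj n).toMonoidHom⟩

theorem mk_scGen_word (w : List (ℕ × F)) :
    PresentedGroup.mk (D.steinbergRelsAB F) (D.stWord w) =
      (w.map fun p => D.scGen F p.1 p.2).prod := by
  simp [ChevalleyDatum.stWord, map_list_prod, List.map_map, Function.comp_def,
    ChevalleyDatum.scGen]

/-- Root lifts satisfying the commutator relation split the extension. -/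
theorem exists_section_of_rel {E : Type*} [Group E] (X : RootLift (presented C) E)
    (hrel : ∀ r s : Fin D.nroots, s ≠ r → s ≠ (presented C).negF r → X.Rel r s) :
    ∃ τ : D.SteinbergCover F →* E, X.π.comp τ = MonoidHom.id _ := by
  have hlift : ∀ (r : ℕ) (t : F),
      FreeGroup.lift (fun p : Fin D.nroots × F => X.e p.1 p.2) (D.stX r t) = X.eN r t := by
    intro r t
    by_cases h : r < D.nroots
    · simp [ChevalleyDatum.stX, RootLift.eN, dif_pos h]
    · simp [ChevalleyDatum.stX, RootLift.eN, dif_neg h]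
  have hrels : ∀ g ∈ D.steinbergRelsAB F,
      FreeGroup.lift (fun p : Fin D.nroots × F => X.e p.1 p.2) g = 1 := by
    rintro g (⟨r, t, u, hr, rfl⟩ | ⟨r, s, t, u, hr, hs, h1, h2, rfl⟩)
    · simp only [map_mul, map_inv, hlift, RootLift.eN, dif_pos hr]
      rw [← X.e_add, mul_inv_cancel]
    · have hw : FreeGroup.lift (fun p : Fin D.nroots × F => X.e p.1 p.2)
          (D.stWord (D.commWord F r s t u)) = X.W ⟨r, hr⟩ ⟨s, hs⟩ t u := by
        simp [ChevalleyDatum.stWord, RootLift.W, map_list_prod, List.map_map, Function.comp_def,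
          hlift]
      simp only [map_mul, map_inv, hlift, hw, RootLift.eN, dif_pos hr, dif_pos hs]
      have h3 := hrel ⟨r, hr⟩ ⟨s, hs⟩ (fun h => h1 (congrArg Fin.val h))
        (fun h => h2 (congrArg Fin.val h)) t u
      rw [mul_assoc _ (X.e ⟨s, hs⟩ u) (X.e ⟨r, hr⟩ t), h3]
      group
  refine ⟨PresentedGroup.toGroup hrels, PresentedGroup.ext fun ⟨r, t⟩ => ?_⟩
  rw [MonoidHom.comp_apply, PresentedGroup.toGroup.of, X.π_e, MonoidHom.id_apply]
  simp [presented, ChevalleyDatum.scGen, ChevalleyDatum.stX, r.isLt, PresentedGroup.of]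

/-- A central extension of the presented group splits. -/
theorem exists_section {E : Type*} [Group E] (X : CentralExt (presented C) E) :
    ∃ τ : D.SteinbergCover F →* E, X.π.comp τ = MonoidHom.id _ :=
  exists_section_of_rel X.rootLift X.rel

/-- Unique lifting of homomorphisms through central extensions. -/
theorem lift_unique (C : ChevCore D F) (hadj : HasNeighbours D)
    (hF : ∃ s : Finset F, 4 < s.card) (hsep : sepCheck D = true) (hself : selfCheck D = true)
    (hperf : commutator (D.SteinbergCover F) = ⊤)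
    {G₁ E : Type*} [Group G₁] [Group E] (π₁ : E →* G₁) (hπ : Function.Surjective π₁)
    (hc : π₁.ker ≤ Subgroup.center E) (σ : D.SteinbergCover F →* G₁) :
    ∃! τ : D.SteinbergCover F →* E, π₁.comp τ = σ := by
  let P : Subgroup (D.SteinbergCover F × E) :=
    (σ.comp (MonoidHom.fst _ E)).eqLocus (π₁.comp (MonoidHom.snd _ E))
  let π : P →* D.SteinbergCover F := (MonoidHom.fst _ E).comp P.subtype
  have hP : ∀ x : P, σ x.1.1 = π₁ x.1.2 := fun x => x.2
  have hsurj : Function.Surjective π := fun g => by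
    obtain ⟨y, hy⟩ := hπ (σ g)
    exact ⟨⟨(g, y), hy.symm⟩, rfl⟩
  have hcent : π.ker ≤ Subgroup.center P := by
    intro x hx
    have h1 : x.1.1 = 1 := hx
    have h2 : x.1.2 ∈ Subgroup.center E := hc (by
      rw [MonoidHom.mem_ker, ← hP x, h1, map_one])
    rw [Subgroup.mem_center_iff]
    refine fun y => Subtype.ext (Prod.ext ?_ ?_)
    · simp [h1]
    · simp [Subgroup.mem_center_iff.1 h2 y.1.2]
  obtain ⟨τ, hτ⟩ := exists_section (centralExt (presented C) hadj hF hsep hself hperf π hsurj hcent)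
  refine ⟨(MonoidHom.snd _ E).comp (P.subtype.comp τ), ?_, ?_⟩
  · refine MonoidHom.ext fun g => ?_
    have h := DFunLike.congr_fun hτ g
    show π₁ (τ g).1.2 = σ g
    rw [← hP]
    exact congrArg σ h
  · intro τ' hτ'
    set τ₀ := (MonoidHom.snd _ E).comp (P.subtype.comp τ) with hτ₀
    have hτ₀π : ∀ g, π₁ (τ₀ g) = σ g := fun g => by
      have h := DFunLike.congr_fun hτ g
      show π₁ (τ g).1.2 = σ g
      rw [← hP]
      exact congrArg σ h
    have hker : ∀ g, τ' g * (τ₀ g)⁻¹ ∈ Subgroup.center E := fun g => hc (by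
      rw [MonoidHom.mem_ker, map_mul, map_inv, hτ₀π, ← MonoidHom.comp_apply, hτ', mul_inv_cancel])
    let δ : D.SteinbergCover F →* ↥(Subgroup.center E) :=
      MonoidHom.mk' (fun g => ⟨τ' g * (τ₀ g)⁻¹, hker g⟩) fun g g' => Subtype.ext (by
        show τ' (g * g') * (τ₀ (g * g'))⁻¹ = τ' g * (τ₀ g)⁻¹ * (τ' g' * (τ₀ g')⁻¹)
        rw [map_mul, map_mul, mul_inv_rev, mul_assoc (τ' g) (τ' g'), ← mul_assoc (τ' g'),
          ← Subgroup.mem_center_iff.1 (hker g') (τ₀ g)⁻¹]
        group)
    have hle : commutator (D.SteinbergCover F) ≤ δ.ker := by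
      rw [commutator_def, Subgroup.commutator_le]
      intro a _ b _
      rw [MonoidHom.mem_ker, map_commutatorElement, commutatorElement_eq_one_iff_commute]
      exact Subtype.ext (Subgroup.mem_center_iff.1 (δ b).2 _)
    rw [hperf] at hle
    refine MonoidHom.ext fun g => ?_
    have h := congrArg Subtype.val (MonoidHom.mem_ker.1 (hle (Subgroup.mem_top g)))
    exact mul_inv_eq_one.1 h

end CfsgLib.ChevCover
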