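import Cfsg.Agent.Lib.ChevStr.Bruhat

/-!
Groups with root elements satisfying Steinberg's relations (R1), (R2) over a Chevalley group:
ordered products over positive systems, injectivity of the projection on them, and the action of
the elements `n_r(t)` on all root elements.
-/

set_option autoImplicit false

namespace CfsgLib.ChevCover

open Cfsg.Lie CfsgLib.ChevStr
open scoped MatrixGroups

variable {D : ChevalleyDatum} {F : Type*} [Field F]

/-- A group with root elements satisfying (R1), (R2), projecting onto the Chevalley group. -/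
structure Cover (C : ChevCore D F) (Γ : Type*) [Group Γ] where
  X : ℕ → F → Γ
  θ : Γ →* GL D.Idx F
  θ_X : ∀ r t, θ (X r t) = C.xGL r t
  X_add : ∀ r < D.nroots, ∀ t u, X r t * X r u = X r (t + u)
  X_comm : ∀ r < D.nroots, ∀ s < D.nroots, s ≠ r → s ≠ D.neg r → ∀ t u,
    X s u * X r t = X r t * X s u * ((D.commWord F r s t u).map fun p => X p.1 p.2).prod
  gen : Subgroup.closure {g | ∃ r : Fin D.nroots, ∃ t, g = X r t} = ⊤

namespace Cover

variable {C : ChevCore D F} {Γ : Type*} [Group Γ] (G : Cover C Γ)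

/-- The negative of a root, as a `Fin`. -/
def negF (_G : Cover C Γ) (r : Fin D.nroots) : Fin D.nroots := ⟨D.neg r, C.R.neg_lt r r.isLt⟩

theorem negF_negF (r : Fin D.nroots) : G.negF (G.negF r) = r := Fin.ext (C.R.neg_neg r r.isLt)

theorem weyl_negF {w : Equiv.Perm (Fin D.nroots)} (hw : w ∈ C.hR.weyl) (r : Fin D.nroots) :
    w (G.negF r) = G.negF (w r) := Fin.ext (C.hR.apply_neg hw r)

theorem sPerm_pRoot' (i : Fin D.rank) : C.hR.sPerm i (C.pRoot i) = G.negF (C.pRoot i) :=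
  C.sPerm_pRoot i

theorem sPerm_negF_pRoot (i : Fin D.rank) : C.hR.sPerm i (G.negF (C.pRoot i)) = C.pRoot i :=
  C.sPerm_pNeg i

theorem X_zero (r : Fin D.nroots) : G.X r 0 = 1 := by
  have h := G.X_add r r.isLt 0 0
  rwa [add_zero, mul_eq_left] at h

theorem X_inv (r : Fin D.nroots) (t : F) : (G.X r t)⁻¹ = G.X r (-t) :=
  inv_eq_of_mul_eq_one_right (by rw [G.X_add r r.isLt, add_neg_cancel, G.X_zero])

theorem X_injective (r : Fin D.nroots) : Function.Injective (G.X r) := fun t u h =>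
  C.xGL_injective r.isLt (by rw [← G.θ_X, ← G.θ_X, h])

/-- `t ↦ x̄_r(t)` as a homomorphism. -/
def xHom (r : Fin D.nroots) : Multiplicative F →* Γ where
  toFun t := G.X r t.toAdd
  map_one' := G.X_zero r
  map_mul' t u := (G.X_add r r.isLt _ _).symm

/-- The root subgroup. -/
def root (r : Fin D.nroots) : Subgroup Γ := (G.xHom r).range

theorem mem_root {r : Fin D.nroots} {g : Γ} : g ∈ G.root r ↔ ∃ t, g = G.X r t :=
  ⟨fun ⟨t, ht⟩ => ⟨t.toAdd, ht.symm⟩, fun ⟨t, ht⟩ => ⟨Multiplicative.ofAdd t, ht.symm⟩⟩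

/-- The subgroup of a set of roots. -/
def Sub (S : Set (Fin D.nroots)) : Subgroup Γ :=
  Subgroup.closure {g | ∃ r ∈ S, ∃ t, g = G.X r t}

theorem X_mem_Sub {S : Set (Fin D.nroots)} {r : Fin D.nroots} (hr : r ∈ S) (t : F) :
    G.X r t ∈ G.Sub S := Subgroup.subset_closure ⟨r, hr, t, rfl⟩

theorem Sub_le {S : Set (Fin D.nroots)} {H : Subgroup Γ} (h : ∀ r ∈ S, ∀ t, G.X r t ∈ H) :
    G.Sub S ≤ H := by
  refine (Subgroup.closure_le _).2 ?_
  rintro g ⟨r, hr, t, rfl⟩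
  exact h r hr t

theorem Sub_mono {S T : Set (Fin D.nroots)} (h : S ⊆ T) : G.Sub S ≤ G.Sub T :=
  G.Sub_le fun _ hr => G.X_mem_Sub (h hr)

theorem Sub_conj_le {S : Set (Fin D.nroots)} {n : Γ} {T : Subgroup Γ}
    (h : ∀ r ∈ S, ∀ t, n * G.X r t * n⁻¹ ∈ T) {g : Γ} (hg : g ∈ G.Sub S) : n * g * n⁻¹ ∈ T := by
  have hle : G.Sub S ≤ T.comap (MulAut.conj n).toMonoidHom := G.Sub_le h
  exact hle hg

theorem commWord_mem {S : Set (Fin D.nroots)} {r s : Fin D.nroots}
    (h : ∀ k : Fin D.nroots, C.R.IsCombo r s k → k ∈ S) (t u : F) :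
    ((D.commWord F r s t u).map fun p => G.X p.1 p.2).prod ∈ G.Sub S := by
  refine Subgroup.list_prod_mem _ fun x hx => ?_
  simp only [List.mem_map, ChevalleyDatum.commWord] at hx
  obtain ⟨p, ⟨c, hc, rfl⟩, rfl⟩ := hx
  obtain ⟨hk, ha, hb, hab⟩ := C.R.commTerms_spec hc
  exact G.X_mem_Sub (r := ⟨c.1, hk⟩) (h _ ⟨hk, _, _, ha, hb, hab⟩) _

/-- `S` absorbs the combinations with `r`. -/
def Absorbs (_G : Cover C Γ) (r : Fin D.nroots) (S : Set (Fin D.nroots)) : Prop :=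
  ∀ s ∈ S, (s : ℕ) ≠ D.neg r ∧ ∀ k : Fin D.nroots, C.R.IsCombo r s k → k ∈ S

theorem conj_mem_Sub {S : Set (Fin D.nroots)} {r : Fin D.nroots} (h : G.Absorbs r S) (t : F)
    {g : Γ} (hg : g ∈ G.Sub S) : G.X r t * g * (G.X r t)⁻¹ ∈ G.Sub S := by
  refine G.Sub_conj_le (fun s hs u => ?_) hg
  obtain ⟨hneg, hk⟩ := h s hs
  by_cases hsr : (s : ℕ) = r
  · have hsr' : s = r := Fin.ext hsr
    subst hsr'
    rw [G.X_add s s.isLt, G.X_inv, G.X_add s s.isLt]
    exact G.X_mem_Sub hs _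
  · have h1 := G.X_comm r r.isLt s s.isLt hsr hneg (-t) u
    rw [← G.X_inv] at h1
    rw [mul_assoc, h1, ← mul_assoc, ← mul_assoc, mul_inv_cancel, one_mul]
    exact mul_mem (G.X_mem_Sub hs u) (G.commWord_mem hk _ u)

theorem root_le_normalizer {S : Set (Fin D.nroots)} {r : Fin D.nroots} (h : G.Absorbs r S) :
    G.root r ≤ Subgroup.normalizer (G.Sub S : Set Γ) := by
  intro x hx
  obtain ⟨t, rfl⟩ := G.mem_root.1 hx
  refine Subgroup.mem_normalizer_iff.2 fun g => ⟨fun hg => G.conj_mem_Sub h t hg, fun hg => ?_⟩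
  have h1 := G.conj_mem_Sub h (-t) hg
  rw [← G.X_inv] at h1
  simpa [mul_assoc] using h1

theorem combo_map {w : Equiv.Perm (Fin D.nroots)} (hw : w ∈ C.hR.weyl) {r s k : Fin D.nroots}
    (h : C.R.IsCombo (w r) (w s) (w k)) : C.R.IsCombo r s k := by
  obtain ⟨-, a, b, ha, hb, hab⟩ := h
  refine ⟨k.isLt, a, b, ha, hb, ?_⟩
  simpa using C.hR.combo_weyl (inv_mem hw) (k := w k) (r := w r) (s := w s) hab

theorem absorbs_image {w : Equiv.Perm (Fin D.nroots)} (hw : w ∈ C.hR.weyl) {r : Fin D.nroots}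
    {S : Set (Fin D.nroots)} (h : G.Absorbs r S) : G.Absorbs (w r) (w '' S) := by
  rintro _ ⟨s, hs, rfl⟩
  obtain ⟨hneg, hk⟩ := h s hs
  refine ⟨fun e => hneg ?_, fun k hc => ?_⟩
  · have h1 : w s = w (G.negF r) := by rw [G.weyl_negF hw]; exact Fin.ext e
    exact congrArg Fin.val (w.injective h1)
  · refine ⟨w⁻¹ k, hk _ (combo_map hw ?_), by simp⟩
    simpa using hc

/-! ### Positive systems -/

/-- The positive roots. -/
def posF (_G : Cover C Γ) : Set (Fin D.nroots) := {r | D.IsPosRoot r}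

/-- An ordered product over the image of a list of roots. -/
def wd (w : Equiv.Perm (Fin D.nroots)) (L : List (Fin D.nroots)) (t : Fin D.nroots → F) : Γ :=
  (L.map fun k => G.X (w k) (t k)).prod

theorem wd_cons (w : Equiv.Perm (Fin D.nroots)) (k : Fin D.nroots) (L : List (Fin D.nroots))
    (t : Fin D.nroots → F) : G.wd w (k :: L) t = G.X (w k) (t k) * G.wd w L t := by simp [wd]

theorem exists_wd {w : Equiv.Perm (Fin D.nroots)} (hw : w ∈ C.hR.weyl) :
    ∀ L : List (Fin D.nroots), L.Pairwise (· < ·) → (∀ r ∈ L, D.IsPosRoot r) →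
      (∀ r ∈ L, ∀ s ∈ L, ∀ k : Fin D.nroots, C.R.IsCombo r s k → k ∈ L) →
      ∀ g ∈ G.Sub (w '' {r | r ∈ L}), ∃ t, g = G.wd w L t := by
  intro L
  induction L with
  | nil =>
    intro _ _ _ g hg
    have : G.Sub (w '' {r | r ∈ ([] : List (Fin D.nroots))}) ≤ ⊥ := by
      refine G.Sub_le ?_
      rintro _ ⟨r, hr, rfl⟩
      exact absurd hr List.not_mem_nil
    exact ⟨fun _ => 0, by simpa [wd] using this hg⟩
  | cons k L ih =>
    intro hp hpos hcl g hg
    obtain ⟨hk, hpL⟩ := List.pairwise_cons.1 hp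
    have hposL : ∀ r ∈ L, D.IsPosRoot r := fun r hr => hpos r (List.mem_cons_of_mem _ hr)
    have hkp := hpos k (List.mem_cons_self ..)
    have htail : ∀ r ∈ k :: L, ∀ s ∈ L, ∀ m : Fin D.nroots, C.R.IsCombo r s m → m ∈ L := by
      intro r hr s hs m hm
      have h1 := (C.R.combo_lt (hpos r hr) (hposL s hs) hm).2
      rcases List.mem_cons.1 (hcl r hr s (List.mem_cons_of_mem _ hs) m hm) with rfl | h2
      · exact absurd (hk s hs) (not_lt.2 (le_of_lt (Fin.lt_def.2 h1)))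
      · exact h2
    have hab : G.Absorbs (w k) (w '' {r | r ∈ L}) := by
      refine G.absorbs_image hw fun s hs => ⟨fun e => ?_, htail k (List.mem_cons_self ..) s hs⟩
      exact C.R.not_pos_and_neg (hposL s hs)
        (by rw [e, C.R.isNeg_neg_iff k.isLt]; exact hkp)
    have hle : G.Sub (w '' {r | r ∈ k :: L}) ≤ G.root (w k) ⊔ G.Sub (w '' {r | r ∈ L}) := by
      refine G.Sub_le ?_
      rintro _ ⟨r, hr, rfl⟩ t
      rcases List.mem_cons.1 hr with rfl | hr
      · exact Subgroup.mem_sup_left (G.mem_root.2 ⟨t, rfl⟩)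
      · exact Subgroup.mem_sup_right (G.X_mem_Sub (Set.mem_image_of_mem w hr) t)
    obtain ⟨x, hx, y, hy, rfl⟩ := (Set.ext_iff.1
      (Subgroup.coe_mul_of_left_le_normalizer_right _ _ (G.root_le_normalizer hab)) g).1 (hle hg)
    obtain ⟨t0, rfl⟩ := G.mem_root.1 hx
    obtain ⟨t, rfl⟩ :=
      ih hpL hposL (fun r hr => htail r (List.mem_cons_of_mem _ hr)) y hy
    refine ⟨Function.update t k t0, ?_⟩
    rw [G.wd_cons, Function.update_self]
    show G.X (w k) t0 * _ = _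
    congr 1
    unfold wd
    rw [List.map_congr_left fun r hr => ?_]
    rw [Function.update_of_ne]
    rintro rfl
    exact lt_irrefl _ (hk r hr)

/-- The projection is injective on the subgroup of a positive system. -/
theorem eq_of_mem {w : Equiv.Perm (Fin D.nroots)} (hw : w ∈ C.hR.weyl) {g g' : Γ}
    (hg : g ∈ G.Sub (w '' G.posF)) (hg' : g' ∈ G.Sub (w '' G.posF))
    (h : G.θ g = G.θ g') : g = g' := by
  classical
  set L : List (Fin D.nroots) :=
    (List.finRange D.nroots).filter fun r : Fin D.nroots => decide (D.IsPosRoot r.val) with hL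
  have hmem : ∀ r : Fin D.nroots, r ∈ L ↔ D.IsPosRoot r := fun r => by simp [hL]
  have hp : L.Pairwise (· < ·) := (List.pairwise_lt_finRange D.nroots).filter _
  have hset : G.posF = {r | r ∈ L} := Set.ext fun r => (hmem r).symm
  have hcl : ∀ r ∈ L, ∀ s ∈ L, ∀ k : Fin D.nroots, C.R.IsCombo r s k → k ∈ L := fun r hr s hs k hk =>
    (hmem k).2 (C.R.combo_pos ((hmem r).1 hr) ((hmem s).1 hs) hk)
  rw [hset] at hg hg'
  obtain ⟨t, rfl⟩ := G.exists_wd hw L hp (fun r hr => (hmem r).1 hr) hcl g hg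
  obtain ⟨t', rfl⟩ := G.exists_wd hw L hp (fun r hr => (hmem r).1 hr) hcl g' hg'
  obtain ⟨n, -, -, e, he⟩ := C.exists_rep hw
  let f : (Fin D.nroots → F) → ℕ → F := fun t k =>
    if h : k < D.nroots then (e k : F) * t ⟨k, h⟩ else 0
  have hθ : ∀ (M : List (Fin D.nroots)) (t : Fin D.nroots → F),
      G.θ (G.wd w M t) = n * C.word (M.map Fin.val) (f t) * n⁻¹ := by
    intro M t
    induction M with
    | nil => simp [wd, C.word_nil]
    | cons k M ih =>
      rw [G.wd_cons, map_mul, G.θ_X, ih, List.map_cons, C.word_cons]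
      have h1 : n * C.xGL k (f t k) * n⁻¹ = C.xGL (w k) (t k) := by
        rw [(he k).2.2]
        congr 1
        rcases (he k).1 with h | h <;> simp [f, h]
      rw [← h1]
      group
  rw [hθ, hθ, mul_left_inj, mul_right_inj] at h
  have hp' : (L.map Fin.val).Pairwise (· < ·) := List.pairwise_map.2 (hp.imp fun h => h)
  have hall := C.word_injective hp' (fun r hr => by
    obtain ⟨a, ha, rfl⟩ := List.mem_map.1 hr
    exact (hmem a).1 ha) _ _ h
  unfold wd
  rw [List.map_congr_left fun r hr => ?_]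
  have h2 := hall r (List.mem_map.2 ⟨r, hr, rfl⟩)
  simp only [f, r.isLt, dif_pos, Fin.eta] at h2
  rcases (he r).1 with h3 | h3 <;> simp [h3] at h2 <;> rw [h2]

theorem image_negative {w : Equiv.Perm (Fin D.nroots)} (hw : w ∈ C.hR.weyl) :
    ∃ v ∈ C.hR.weyl, ∀ s : Fin D.nroots, D.IsNegRoot s → w s ∈ v '' G.posF := by
  obtain ⟨w0, hw0, h0⟩ := C.hR.exists_longest
  refine ⟨w * w0, mul_mem hw hw0, fun s hs => ⟨w0⁻¹ s, ?_, by simp⟩⟩
  refine (C.R.pos_or_neg (w0⁻¹ s).isLt).resolve_right fun hn => ?_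
  have hp : D.IsPosRoot (G.negF (w0⁻¹ s)) := (C.R.isPos_neg_iff (w0⁻¹ s).isLt).2 hn
  have h1 := h0 _ hp
  rw [G.weyl_negF hw0] at h1
  simp only [Equiv.Perm.inv_def, Equiv.apply_symm_apply] at h1
  exact C.R.not_pos_and_neg ((C.R.isPos_neg_iff s.isLt).2 hs) h1

/-! ### A pair of opposite roots -/

/-- Roots with a coefficient of sign `e` off the `i`-th place. -/
def side (_G : Cover C Γ) (i : Fin D.rank) (e : ℤ) : Set (Fin D.nroots) :=
  {s | ∃ j, j ≠ i ∧ 0 < e * C.R.α s j}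

theorem absorbs_side (i : Fin D.rank) (e : ℤ) {r : Fin D.nroots}
    (hr : r = C.pRoot i ∨ r = G.negF (C.pRoot i)) : G.Absorbs r (G.side i e) := by
  rintro s ⟨j, hji, hj⟩
  have h0 : C.R.α r j = 0 := by
    rcases hr with rfl | rfl
    · simp [ChevCore.pRoot, C.R.α_simple, hji]
    · simp [negF, ChevCore.pRoot, C.R.α_neg _ (C.R.simple_lt i), C.R.α_simple, hji]
  refine ⟨fun he => ?_, fun k hk => ?_⟩
  · rw [he, C.R.α_neg _ r.isLt, Pi.neg_apply, h0] at hj
    simp at hj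
  · obtain ⟨-, a, b, -, hb, hab⟩ := hk
    refine ⟨j, hji, ?_⟩
    rw [hab, Pi.add_apply, Pi.smul_apply, Pi.smul_apply, h0, smul_zero, zero_add, smul_eq_mul,
      mul_left_comm]
    exact mul_pos (by exact_mod_cast hb) hj

theorem exists_side (i : Fin D.rank) {s : Fin D.nroots} (h1 : s ≠ C.pRoot i)
    (h2 : s ≠ G.negF (C.pRoot i)) : ∃ e : ℤ, (e = 1 ∨ e = -1) ∧ s ∈ G.side i e := by
  obtain ⟨j, hji, hj⟩ : ∃ j, j ≠ i ∧ C.R.α s j ≠ 0 := by
    by_contra hcon
    push Not at hcon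
    rcases C.hR.only i s s.isLt hcon with h | h
    · exact h1 (Fin.ext h)
    · exact h2 (Fin.ext h)
  rcases lt_or_gt_of_ne hj with h | h
  · exact ⟨-1, Or.inr rfl, j, hji, by omega⟩
  · exact ⟨1, Or.inl rfl, j, hji, by omega⟩

theorem side_sPerm (i : Fin D.rank) (e : ℤ) {s : Fin D.nroots} (hs : s ∈ G.side i e) :
    C.hR.sPerm i s ∈ G.side i e := by
  obtain ⟨j, hji, hj⟩ := hs
  refine ⟨j, hji, ?_⟩
  rw [ReflData.sPerm_val, C.hR.α_refl i s s.isLt]
  simpa [hji] using hj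

theorem side_pos (i : Fin D.rank) {s : Fin D.nroots} (hs : s ∈ G.side i 1) : D.IsPosRoot s := by
  obtain ⟨j, -, hj⟩ := hs
  refine (C.R.pos_or_neg s.isLt).resolve_right fun hn => ?_
  have h3 : C.R.α s j ≤ 0 := ((C.R.isNeg_iff _).1 hn).2 j
  omega

theorem side_neg (i : Fin D.rank) {s : Fin D.nroots} (hs : s ∈ G.side i (-1)) :
    D.IsNegRoot s := by
  obtain ⟨j, -, hj⟩ := hs
  refine (C.R.pos_or_neg s.isLt).resolve_left fun hn => ?_
  have h3 : 0 ≤ C.R.α s j := ((C.R.isPos_iff _).1 hn).2 j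
  omega

/-- The subgroup of a pair of opposite roots `±w(p_i)`. -/
def pair (w : Equiv.Perm (Fin D.nroots)) (i : Fin D.rank) : Subgroup Γ :=
  G.root (w (C.pRoot i)) ⊔ G.root (w (G.negF (C.pRoot i)))

/-- The reflection in `w(p_i)`. -/
def refl (_G : Cover C Γ) (w : Equiv.Perm (Fin D.nroots)) (i : Fin D.rank) :
    Equiv.Perm (Fin D.nroots) := w * C.hR.sPerm i * w⁻¹

theorem refl_apply (w : Equiv.Perm (Fin D.nroots)) (i : Fin D.rank) (s : Fin D.nroots) :
    G.refl w i (w s) = w (C.hR.sPerm i s) := by simp [refl]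

theorem refl_mem {w : Equiv.Perm (Fin D.nroots)} (hw : w ∈ C.hR.weyl) (i : Fin D.rank) :
    G.refl w i ∈ C.hR.weyl := mul_mem (mul_mem hw (C.hR.sPerm_mem i)) (inv_mem hw)

theorem refl_inv (w : Equiv.Perm (Fin D.nroots)) (i : Fin D.rank) :
    (G.refl w i)⁻¹ = G.refl w i := by
  rw [refl, mul_inv_rev, mul_inv_rev, inv_inv,
    inv_eq_of_mul_eq_one_right (C.hR.sPerm_mul_self i), mul_assoc]

/-- Conjugation by the pair subgroup of a root off the pair is known from the projection. -/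
theorem pair_conj_eq {w : Equiv.Perm (Fin D.nroots)} (hw : w ∈ C.hR.weyl) (i : Fin D.rank)
    {m : Γ} (hm : m ∈ G.pair w i) {s : Fin D.nroots} (h1 : s ≠ w (C.pRoot i))
    (h2 : s ≠ w (G.negF (C.pRoot i))) {u u' : F}
    (hθ : G.θ m * C.xGL s u * (G.θ m)⁻¹ = C.xGL (G.refl w i s) u') :
    m * G.X s u * m⁻¹ = G.X (G.refl w i s) u' := by
  obtain ⟨s, rfl⟩ := w.surjective s
  obtain ⟨e, he, hs⟩ := G.exists_side (s := s) i (fun h => h1 (by rw [h])) (fun h => h2 (by rw [h]))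
  set T := w '' G.side i e with hT
  have hnorm : G.pair w i ≤ Subgroup.normalizer (G.Sub T : Set Γ) :=
    sup_le (G.root_le_normalizer (G.absorbs_image hw (G.absorbs_side i e (Or.inl rfl))))
      (G.root_le_normalizer (G.absorbs_image hw (G.absorbs_side i e (Or.inr rfl))))
  have hl : m * G.X (w s) u * m⁻¹ ∈ G.Sub T :=
    (Subgroup.mem_normalizer_iff.1 (hnorm hm) _).1 (G.X_mem_Sub (Set.mem_image_of_mem w hs) u)
  have hr : G.X (G.refl w i (w s)) u' ∈ G.Sub T :=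
    G.X_mem_Sub (show G.refl w i (w s) ∈ T from ⟨_, G.side_sPerm i e hs, (G.refl_apply w i s).symm⟩) u'
  obtain ⟨v, hv, hsub⟩ : ∃ v ∈ C.hR.weyl, T ⊆ v '' G.posF := by
    rcases he with rfl | rfl
    · exact ⟨w, hw, Set.image_mono fun x hx => G.side_pos i hx⟩
    · obtain ⟨v, hv, hvs⟩ := G.image_negative hw
      refine ⟨v, hv, ?_⟩
      rintro _ ⟨x, hx, rfl⟩
      exact hvs x (G.side_neg i hx)
  refine G.eq_of_mem hv (G.Sub_mono hsub hl) (G.Sub_mono hsub hr) ?_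
  rw [map_mul, map_mul, map_inv, G.θ_X, G.θ_X, hθ]

/-! ### The elements `n_r(t)` -/

/-- `n̄_r(t)`. -/
def N (r : Fin D.nroots) (t : F) : Γ := G.X r t * G.X (G.negF r) (-t⁻¹) * G.X r t

theorem θ_N (r : Fin D.nroots) (t : F) : G.θ (G.N r t) = C.nGL r t := by
  simp [N, G.θ_X, negF, ChevCore.nGL, ChevCore.wordGL, ChevalleyDatum.nWord, mul_assoc]

theorem N_inv (r : Fin D.nroots) (t : F) : (G.N r t)⁻¹ = G.N r (-t) := by
  simp [N, mul_inv_rev, G.X_inv, inv_neg, mul_assoc]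

theorem N_mem_pair {w : Equiv.Perm (Fin D.nroots)} (hw : w ∈ C.hR.weyl) (i : Fin D.rank) (t : F) :
    G.N (w (C.pRoot i)) t ∈ G.pair w i := by
  have h1 : ∀ u, G.X (w (C.pRoot i)) u ∈ G.pair w i := fun u =>
    Subgroup.mem_sup_left (G.mem_root.2 ⟨u, rfl⟩)
  refine mul_mem (mul_mem (h1 t) (Subgroup.mem_sup_right (G.mem_root.2 ⟨-t⁻¹, ?_⟩))) (h1 t)
  rw [G.weyl_negF hw]

/-- `n` permutes the root elements as `v`. -/
def Nice (n : Γ) (v : Equiv.Perm (Fin D.nroots)) : Prop :=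
  v ∈ C.hR.weyl ∧ ∀ (s : Fin D.nroots) (u : F), ∃ u', n * G.X s u * n⁻¹ = G.X (v s) u'

theorem Nice.moves {n : Γ} {v : Equiv.Perm (Fin D.nroots)} (h : G.Nice n v) :
    C.Moves (G.θ n) v := by
  refine ⟨h.1, fun s t => ?_⟩
  obtain ⟨u, hu⟩ := h.2 s t
  refine ⟨u, ?_⟩
  have := congrArg G.θ hu
  rwa [map_mul, map_mul, map_inv, G.θ_X, G.θ_X] at this

theorem Nice.mul {n m : Γ} {v w : Equiv.Perm (Fin D.nroots)} (hn : G.Nice n v) (hm : G.Nice m w) :
    G.Nice (n * m) (v * w) := by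
  refine ⟨mul_mem hn.1 hm.1, fun s u => ?_⟩
  obtain ⟨a, ha⟩ := hm.2 s u
  obtain ⟨b, hb⟩ := hn.2 (w s) a
  refine ⟨b, ?_⟩
  rw [Equiv.Perm.mul_apply, ← hb, ← ha]
  group

theorem nice_one : G.Nice 1 1 := ⟨one_mem _, fun s u => ⟨u, by simp⟩⟩

theorem Nice.eq {n : Γ} {v : Equiv.Perm (Fin D.nroots)} (h : G.Nice n v) {s : Fin D.nroots}
    {u u' : F} (hθ : G.θ n * C.xGL s u * (G.θ n)⁻¹ = C.xGL (v s) u') :
    n * G.X s u * n⁻¹ = G.X (v s) u' := by
  obtain ⟨a, ha⟩ := h.2 s u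
  have h1 := congrArg G.θ ha
  rw [map_mul, map_mul, map_inv, G.θ_X, G.θ_X, hθ] at h1
  rw [ha, C.xGL_injective (v s).isLt h1]

theorem moves_nGL (C : ChevCore D F) {w : Equiv.Perm (Fin D.nroots)} (hw : w ∈ C.hR.weyl)
    (i : Fin D.rank) {t : F} (ht : t ≠ 0) :
    C.Moves (C.nGL (w (C.pRoot i)) t) (w * C.hR.sPerm i * w⁻¹) := by
  obtain ⟨n, -, hact⟩ := C.exists_rep hw
  obtain ⟨e, he, hconj⟩ := C.nGL_conj hact (C.pRoot i)
  have he0 : (e : F) ≠ 0 := by rcases he with h | h <;> simp [h]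
  have h1 : C.nGL (w (C.pRoot i)) t =
      n * (C.R.torusSingle i (Units.mk0 _ (mul_ne_zero he0 ht)) * C.nS i) * n⁻¹ := by
    rw [← C.nGL_simple, Units.val_mk0]
    rw [show C.nGL (D.simple i.val) ((e : F) * t) = C.nGL (C.pRoot i) ((e : F) * t) from rfl,
      hconj, ← mul_assoc]
    rcases he with h | h <;> simp [h]
  rw [h1]
  have h2 := ChevCore.Moves.mul C (ChevCore.Moves.mul C (ChevCore.Acts.moves C hact)
    (ChevCore.Moves.mul C (C.moves_torus (Pi.mulSingle i (Units.mk0 _ (mul_ne_zero he0 ht))))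
      (ChevCore.Acts.moves C (C.acts_nS i))))
    (ChevCore.Acts.moves C (ChevCore.Acts.inv C hact))
  rwa [one_mul] at h2

/-- Every fundamental root has a neighbour. -/
def HasNeighbours (D : ChevalleyDatum) : Prop :=
  ∀ i : Fin D.rank, ∃ k : Fin D.rank, k ≠ i ∧ D.cartan k.val (D.simple i.val) ≠ 0

theorem nice_N (hadj : HasNeighbours D) {w : Equiv.Perm (Fin D.nroots)} (hw : w ∈ C.hR.weyl)
    (i : Fin D.rank) {t : F} (ht : t ≠ 0) :
    G.Nice (G.N (w (C.pRoot i)) t) (G.refl w i) := by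
  set n := G.N (w (C.pRoot i)) t with hn
  have hθn : C.Moves (G.θ n) (G.refl w i) := by rw [hn, G.θ_N]; exact moves_nGL C hw i ht
  have hoff : ∀ (s : Fin D.nroots) (u : F), s ≠ w (C.pRoot i) → s ≠ w (G.negF (C.pRoot i)) →
      ∃ u', n * G.X s u * n⁻¹ = G.X (G.refl w i s) u' := fun s u h1 h2 => by
    obtain ⟨u', hu'⟩ := hθn.2 s u
    exact ⟨u', G.pair_conj_eq hw i (G.N_mem_pair hw i t) h1 h2 hu'⟩
  refine ⟨G.refl_mem hw i, fun s u => ?_⟩
  obtain ⟨s, rfl⟩ := w.surjective s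
  by_cases hs : s = C.pRoot i ∨ s = G.negF (C.pRoot i)
  swap
  · push Not at hs
    exact hoff _ u (fun h => hs.1 (w.injective h)) (fun h => hs.2 (w.injective h))
  obtain ⟨k, hki, hk⟩ := hadj i
  have hαp : C.R.α (C.pRoot i) = Pi.single i 1 := C.R.α_simple i
  have hαk : C.R.α (C.pRoot k) = Pi.single k 1 := C.R.α_simple k
  have hik : C.pRoot k ≠ C.pRoot i ∧ C.pRoot k ≠ G.negF (C.pRoot i) := by
    constructor <;> intro h <;> have h' := congrArg (fun r : Fin D.nroots => C.R.α r k) h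
    · simp [hαk, hαp, hki] at h'
    · simp [hαk, negF, ChevCore.pRoot, C.R.α_neg _ (C.R.simple_lt i), C.R.α_simple, hki] at h'
  have hik' : G.negF (C.pRoot k) ≠ C.pRoot i ∧ G.negF (C.pRoot k) ≠ G.negF (C.pRoot i) := by
    constructor <;> intro h <;> have h' := congrArg G.negF h <;>
      simp only [G.negF_negF] at h'
    · exact hik.2 h'
    · exact hik.1 h'
  have hsk : s ≠ C.pRoot k ∧ s ≠ G.negF (C.pRoot k) := by
    rcases hs with rfl | rfl
    · exact ⟨hik.1.symm, hik'.1.symm⟩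
    · exact ⟨hik.2.symm, hik'.2.symm⟩
  set r' := C.hR.sPerm k s with hr'
  have hr'k : r' ≠ C.pRoot k ∧ r' ≠ G.negF (C.pRoot k) := by
    constructor <;> intro h <;> have h' := congrArg (C.hR.sPerm k) h <;>
      rw [hr', C.hR.sPerm_sPerm] at h'
    · exact hsk.2 (by rw [h', G.sPerm_pRoot' k])
    · exact hsk.1 (by rw [h', G.sPerm_negF_pRoot k])
  have hr'i : r' ≠ C.pRoot i ∧ r' ≠ G.negF (C.pRoot i) := by
    have hval : C.R.α r' k ≠ 0 := by
      rw [hr', ReflData.sPerm_val, C.hR.α_refl k s s.isLt]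
      rcases hs with rfl | rfl
      · simpa [C.R.α_simple, hki, ChevCore.pRoot] using hk
      · have hc : D.cartan k.val (D.neg (D.simple i.val)) = - D.cartan k.val (D.simple i.val) := by
          rw [C.R.cartan_sum k (C.R.neg_lt _ (C.R.simple_lt i)), C.R.α_neg _ (C.R.simple_lt i),
            map_neg, ← C.R.cartan_sum k (C.R.simple_lt i)]
        simpa [negF, ChevCore.pRoot, C.R.α_neg _ (C.R.simple_lt i), C.R.α_simple, hki, hc] using hk
    constructor <;> intro h <;> rw [h] at hval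
    · simp [hαp, hki] at hval
    · simp [negF, ChevCore.pRoot, C.R.α_neg _ (C.R.simple_lt i), C.R.α_simple, hki] at hval
  set m := G.N (w (C.pRoot k)) 1 with hm
  have hminv : m⁻¹ ∈ G.pair w k := inv_mem (G.N_mem_pair hw k 1)
  obtain ⟨u', hu'⟩ : ∃ u', m⁻¹ * G.X (w s) u * (m⁻¹)⁻¹ = G.X (G.refl w k (w s)) u' := by
    have hmov : C.Moves (G.θ m⁻¹) (G.refl w k) := by
      rw [hm, G.N_inv, G.θ_N]; exact moves_nGL C hw k (neg_ne_zero.2 one_ne_zero)
    obtain ⟨u', hu'⟩ := hmov.2 (w s) u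
    exact ⟨u', G.pair_conj_eq hw k hminv (fun h => hsk.1 (w.injective h))
      (fun h => hsk.2 (w.injective h)) hu'⟩
  rw [G.refl_apply, ← hr'] at hu'
  obtain ⟨u'', hu''⟩ := hoff (w r') u' (fun h => hr'i.1 (w.injective h))
    (fun h => hr'i.2 (w.injective h))
  set v := G.refl w i with hv
  have hvw : v * w ∈ C.hR.weyl := mul_mem (G.refl_mem hw i) hw
  have hm' : n * m * n⁻¹ ∈ G.pair (v * w) k := by
    have hle : G.pair w k ≤ (G.pair (v * w) k).comap (MulAut.conj n).toMonoidHom := by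
      refine sup_le ?_ ?_ <;> intro g hg <;> obtain ⟨a, rfl⟩ := G.mem_root.1 hg <;>
        show n * _ * n⁻¹ ∈ G.pair (v * w) k
      · obtain ⟨b, hb⟩ := hoff (w (C.pRoot k)) a (fun h => hik.1 (w.injective h))
          (fun h => hik.2 (w.injective h))
        rw [hb]
        exact Subgroup.mem_sup_left (G.mem_root.2 ⟨b, rfl⟩)
      · obtain ⟨b, hb⟩ := hoff (w (G.negF (C.pRoot k))) a (fun h => hik'.1 (w.injective h))
          (fun h => hik'.2 (w.injective h))
        rw [hb]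
        exact Subgroup.mem_sup_right (G.mem_root.2 ⟨b, rfl⟩)
    exact hle (G.N_mem_pair hw k 1)
  obtain ⟨c, hc⟩ := hθn.2 (w s) u
  refine ⟨c, ?_⟩
  have htarget : G.refl (v * w) k (v (w r')) = v (w s) := by
    rw [← Equiv.Perm.mul_apply v w r', G.refl_apply, Equiv.Perm.mul_apply, hr', C.hR.sPerm_sPerm]
  have hXs : G.X (w s) u = m * G.X (w r') u' * m⁻¹ := by rw [← hu']; group
  have hconj : n * G.X (w s) u * n⁻¹ = n * m * n⁻¹ * G.X (v (w r')) u'' * (n * m * n⁻¹)⁻¹ := by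
    rw [hXs, ← hu'']; group
  rw [hconj, ← htarget]
  refine G.pair_conj_eq hvw k hm' (fun h => hr'k.1 (w.injective (v.injective h)))
    (fun h => hr'k.2 (w.injective (v.injective h))) ?_
  rw [htarget, ← hc]
  have h1 := congrArg G.θ hconj
  simp only [map_mul, map_inv, G.θ_X] at h1 ⊢
  exact h1.symm

end Cover

end CfsgLib.ChevCover
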