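import Cfsg.Agent.Lib.ChevCover.Basic

/-!
The Bruhat decomposition in a group satisfying (R1), (R2), and centrality of the kernel of its
projection onto the Chevalley group.
-/

set_option autoImplicit false

namespace CfsgLib.ChevCover

open Cfsg.Lie CfsgLib.ChevStr
open scoped MatrixGroups

variable {D : ChevalleyDatum} {F : Type*} [Field F]

namespace Cover

variable {C : ChevCore D F} {Γ : Type*} [Group Γ] (G : Cover C Γ)

/-- The subgroup generated by the `n̄_p(t)`. -/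
def mono : Subgroup Γ :=
  Subgroup.closure {g | ∃ (i : Fin D.rank) (t : F), t ≠ 0 ∧ g = G.N (C.pRoot i) t}

theorem N_mem_mono (i : Fin D.rank) {t : F} (ht : t ≠ 0) : G.N (C.pRoot i) t ∈ G.mono :=
  Subgroup.subset_closure ⟨i, t, ht, rfl⟩

theorem nice_N_simple (hadj : HasNeighbours D) (i : Fin D.rank) {t : F} (ht : t ≠ 0) :
    G.Nice (G.N (C.pRoot i) t) (C.hR.sPerm i) := by
  simpa [refl] using G.nice_N hadj (one_mem C.hR.weyl) i ht

theorem exists_nice (hadj : HasNeighbours D) {n : Γ} (hn : n ∈ G.mono) :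
    ∃ v, G.Nice n v ∧ G.Nice n⁻¹ v⁻¹ := by
  refine Subgroup.closure_induction (p := fun n _ => ∃ v, G.Nice n v ∧ G.Nice n⁻¹ v⁻¹) ?_ ?_ ?_ ?_ hn
  · rintro x ⟨i, t, ht, rfl⟩
    refine ⟨_, G.nice_N_simple hadj i ht, ?_⟩
    rw [G.N_inv, inv_eq_of_mul_eq_one_right (C.hR.sPerm_mul_self i)]
    exact G.nice_N_simple hadj i (neg_ne_zero.2 ht)
  · exact ⟨1, G.nice_one, by simpa using G.nice_one⟩
  · rintro x y _ _ ⟨v, hv, hv'⟩ ⟨w, hw, hw'⟩
    exact ⟨v * w, Nice.mul G hv hw, by simpa using Nice.mul G hw' hv'⟩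
  · rintro x _ ⟨v, hv, hv'⟩
    exact ⟨v⁻¹, hv', by simpa using hv⟩

theorem exists_mono_rep (hadj : HasNeighbours D) {w : Equiv.Perm (Fin D.nroots)}
    (hw : w ∈ C.hR.weyl) : ∃ n ∈ G.mono, G.Nice n w := by
  refine C.hR.weyl_induction (P := fun w => ∃ n ∈ G.mono, G.Nice n w)
    ⟨1, one_mem _, G.nice_one⟩ ?_ w hw
  rintro v - i ⟨n, hn, hv⟩
  exact ⟨n * G.N (C.pRoot i) 1, mul_mem hn (G.N_mem_mono i one_ne_zero),
    Nice.mul G hv (G.nice_N_simple hadj i one_ne_zero)⟩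

theorem X_mem_of_mono (hadj : HasNeighbours D) {M : Subgroup Γ} (hN : G.mono ≤ M)
    (hp : ∀ i t, G.X (C.pRoot i) t ∈ M) (r : Fin D.nroots) (t : F) : G.X r t ∈ M := by
  obtain ⟨w, hw, k, hk⟩ := C.exists_simple_image r
  obtain ⟨n, hn, hv⟩ := G.exists_mono_rep hadj hw
  obtain ⟨v, hv1, hv2⟩ := G.exists_nice hadj hn
  rw [ChevCore.Moves.unique C (Nice.moves G hv1) (Nice.moves G hv)] at hv2
  obtain ⟨u, hu⟩ := hv2.2 r t
  have hwr : w⁻¹ r = C.pRoot k := Equiv.Perm.inv_eq_iff_eq.2 hk.symm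
  rw [hwr, inv_inv] at hu
  have h1 : G.X r t = n * G.X (C.pRoot k) u * n⁻¹ := by rw [← hu]; group
  rw [h1]
  exact mul_mem (mul_mem (hN hn) (hp k u)) (inv_mem (hN hn))

theorem mem_side_iff (i : Fin D.rank) {s : Fin D.nroots} :
    s ∈ G.side i 1 ↔ D.IsPosRoot s ∧ s ≠ C.pRoot i := by
  refine ⟨fun hs => ⟨G.side_pos i hs, fun h => ?_⟩, fun ⟨hp, hne⟩ => ?_⟩
  · obtain ⟨j, hji, hj⟩ := hs
    rw [h] at hj
    simp [ChevCore.pRoot, C.R.α_simple, hji] at hj
  · obtain ⟨e, rfl | rfl, hs⟩ := G.exists_side i hne fun h => C.R.not_pos_and_neg hp (by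
      rw [h]; exact (C.R.isNeg_neg_iff (C.R.simple_lt i)).2 (C.R.simple_pos i))
    · exact hs
    · exact absurd (G.side_neg i hs) fun hn => C.R.not_pos_and_neg hp hn

/-- `Ū N̄ Ū`. -/
def bruhatSet : Set Γ :=
  {g | ∃ a ∈ G.Sub G.posF, ∃ m ∈ G.mono, ∃ b ∈ G.Sub G.posF, g = a * m * b}

theorem N_mul_mem (hadj : HasNeighbours D) (i : Fin D.rank) {t : F} (ht : t ≠ 0) {g : Γ}
    (hg : g ∈ G.bruhatSet) : G.N (C.pRoot i) t * g ∈ G.bruhatSet := by
  obtain ⟨a, ha, m, hm, b, hb, rfl⟩ := hg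
  set p := C.pRoot i with hp
  set S := G.Sub (G.side i 1) with hS
  have hSle : S ≤ G.Sub G.posF := G.Sub_mono fun s hs => G.side_pos i hs
  have hppos : p ∈ G.posF := C.R.simple_pos i
  have hle : G.Sub G.posF ≤ S ⊔ G.root p := by
    refine G.Sub_le fun r hr u => ?_
    by_cases h : r = p
    · exact Subgroup.mem_sup_right (G.mem_root.2 ⟨u, by rw [h]⟩)
    · exact Subgroup.mem_sup_left (G.X_mem_Sub ((G.mem_side_iff i).2 ⟨hr, h⟩) u)
  obtain ⟨v, hv, x, hx, rfl⟩ := (Set.ext_iff.1 (Subgroup.coe_mul_of_right_le_normalizer_left _ _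
    (G.root_le_normalizer (G.absorbs_side i 1 (Or.inl rfl)))) a).1 (hle ha)
  obtain ⟨c, rfl⟩ := G.mem_root.1 hx
  have hnice := G.nice_N_simple hadj i ht
  have hv' : G.N p t * v * (G.N p t)⁻¹ ∈ G.Sub G.posF := by
    refine hSle (G.Sub_conj_le (fun r hr u => ?_) hv)
    obtain ⟨u', hu'⟩ := hnice.2 r u
    rw [hu']
    exact G.X_mem_Sub (G.side_sPerm i 1 hr) u'
  suffices h : G.N p t * G.X p c * m ∈ G.bruhatSet by
    obtain ⟨a', ha', m', hm', b', hb', he⟩ := h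
    refine ⟨G.N p t * v * (G.N p t)⁻¹ * a', mul_mem hv' ha', m', hm', b' * b, mul_mem hb' hb, ?_⟩
    calc G.N p t * (v * G.X p c * m * b)
        = G.N p t * v * (G.N p t)⁻¹ * (G.N p t * G.X p c * m) * b := by group
      _ = _ := by rw [he]; group
  obtain ⟨σ, hσ, hσ'⟩ := G.exists_nice hadj hm
  by_cases hc : c = 0
  · refine ⟨1, one_mem _, G.N p t * m, mul_mem (G.N_mem_mono i ht) hm, 1, one_mem _, ?_⟩
    simp [hc, G.X_zero]
  rcases C.R.pos_or_neg (σ⁻¹ p).isLt with hpos | hneg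
  · obtain ⟨u, hu⟩ := hσ'.2 p c
    refine ⟨1, one_mem _, G.N p t * m, mul_mem (G.N_mem_mono i ht) hm, G.X (σ⁻¹ p) u,
      G.X_mem_Sub (S := G.posF) hpos u, ?_⟩
    rw [← hu]; group
  · set q := G.negF p with hq
    have hqpos : D.IsPosRoot (σ⁻¹ q) := by
      rw [hq, G.weyl_negF hσ'.1]
      exact (C.R.isPos_neg_iff (σ⁻¹ p).isLt).2 hneg
    obtain ⟨u, hu⟩ := hσ'.2 q c⁻¹
    set h' := G.N p t * G.N p c with hh'
    have hh1 : G.Nice h' 1 := by
      have := Nice.mul G hnice (G.nice_N_simple hadj i hc)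
      rwa [C.hR.sPerm_mul_self i] at this
    obtain ⟨c', hc'⟩ := hh1.2 p (-c)
    rw [Equiv.Perm.one_apply] at hc'
    refine ⟨G.X p c', G.X_mem_Sub hppos c', h' * m,
      mul_mem (mul_mem (G.N_mem_mono i ht) (G.N_mem_mono i hc)) hm, G.X (σ⁻¹ q) u,
      G.X_mem_Sub (S := G.posF) hqpos u, ?_⟩
    have hX : G.X p c = G.N p c * G.X p (-c) * G.X q c⁻¹ := by
      have h1 : G.X q (-c⁻¹) = (G.X q c⁻¹)⁻¹ := (G.X_inv q _).symm
      rw [← G.X_inv]
      simp only [N, ← hq, h1]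
      group
    rw [← hc', ← hu, hh']
    conv_lhs => rw [hX]
    group

theorem mem_bruhatSet (hadj : HasNeighbours D) (g : Γ) : g ∈ G.bruhatSet := by
  let M : Subgroup Γ := G.Sub G.posF ⊔ G.mono
  have htop : g ∈ M := by
    have : (⊤ : Subgroup Γ) ≤ M := by
      rw [← G.gen]
      refine (Subgroup.closure_le _).2 ?_
      rintro x ⟨r, u, rfl⟩
      exact G.X_mem_of_mono hadj le_sup_right
        (fun i u => Subgroup.mem_sup_left (G.X_mem_Sub (C.R.simple_pos i) u)) r u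
    exact this trivial
  have hstep : ∀ n ∈ G.mono, ∀ g ∈ G.bruhatSet, n * g ∈ G.bruhatSet := by
    intro n hn
    refine Subgroup.closure_induction_left (p := fun n _ => ∀ g ∈ G.bruhatSet, n * g ∈ G.bruhatSet)
      (fun g hg => by simpa using hg) ?_ ?_ hn
    · rintro x ⟨i, t, ht, rfl⟩ y _ ih g hg
      rw [mul_assoc]
      exact G.N_mul_mem hadj i ht (ih g hg)
    · rintro x ⟨i, t, ht, rfl⟩ y _ ih g hg
      rw [G.N_inv, mul_assoc]
      exact G.N_mul_mem hadj i (neg_ne_zero.2 ht) (ih g hg)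
  have hU : ∀ a ∈ G.Sub G.posF, ∀ g ∈ G.bruhatSet, a * g ∈ G.bruhatSet := by
    rintro a ha g ⟨a', ha', m, hm, b, hb, rfl⟩
    exact ⟨a * a', mul_mem ha ha', m, hm, b, hb, by group⟩
  rw [show M = Subgroup.closure ((G.Sub G.posF : Set Γ) ∪ (G.mono : Set Γ)) by
    rw [Subgroup.closure_union, Subgroup.closure_eq, Subgroup.closure_eq]] at htop
  refine Subgroup.closure_induction_left (p := fun g _ => g ∈ G.bruhatSet)
    ⟨1, one_mem _, 1, one_mem _, 1, one_mem _, by simp⟩ ?_ ?_ htop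
  · rintro x (hx | hx) y _ ih
    exacts [hU x hx y ih, hstep x hx y ih]
  · rintro x (hx | hx) y _ ih
    exacts [hU _ (inv_mem hx) y ih, hstep _ (inv_mem hx) y ih]

theorem θ_mono_mem {m : Γ} (hm : m ∈ G.mono) : G.θ m ∈ D.monomialSubgroup F := by
  have hle : G.mono ≤ (D.monomialSubgroup F).comap G.θ := by
    refine (Subgroup.closure_le _).2 ?_
    rintro x ⟨i, t, ht, rfl⟩
    rw [SetLike.mem_coe, Subgroup.mem_comap, G.θ_N,
      show C.nGL (C.pRoot i) t = C.R.torusSingle i (Units.mk0 t ht) * C.nS i from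
        C.nGL_simple i (Units.mk0 t ht)]
    exact mul_mem (C.torus_mem_monomial _) (C.nS_mem_monomial i)
  exact hle hm

theorem nice_one_of_θ_eq_one (hadj : HasNeighbours D) {m : Γ} (hm : m ∈ G.mono) (h : G.θ m = 1) :
    G.Nice m 1 := by
  obtain ⟨σ, hσ, -⟩ := G.exists_nice hadj hm
  have h1 := Nice.moves G hσ
  rw [h] at h1
  rwa [ChevCore.Moves.unique C h1 (ChevCore.Acts.moves C C.acts_one)] at hσ

theorem mem_center_of_mono (hadj : HasNeighbours D) {m : Γ} (hm : m ∈ G.mono) (h : G.θ m = 1) :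
    m ∈ Subgroup.center Γ := by
  have hn := G.nice_one_of_θ_eq_one hadj hm h
  rw [Subgroup.mem_center_iff]
  intro g
  have hle : (⊤ : Subgroup Γ) ≤ Subgroup.centralizer {m} := by
    rw [← G.gen]
    refine (Subgroup.closure_le _).2 ?_
    rintro x ⟨r, u, rfl⟩
    rw [SetLike.mem_coe, Subgroup.mem_centralizer_iff]
    rintro y rfl
    have h1 := Nice.eq G hn (s := r) (u := u) (u' := u) (by simp [h])
    rw [Equiv.Perm.one_apply] at h1
    rw [← mul_inv_eq_iff_eq_mul, h1]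
  exact (Subgroup.mem_centralizer_iff.1 (hle (Subgroup.mem_top g)) m rfl).symm

/-- The kernel of the projection lies in `N̄` and is central. -/
theorem ker_mem (hadj : HasNeighbours D) {z : Γ} (hz : z ∈ G.θ.ker) :
    z ∈ G.mono ∧ z ∈ Subgroup.center Γ := by
  obtain ⟨a, ha, m, hm, b, hb, rfl⟩ := G.mem_bruhatSet hadj z
  rw [MonoidHom.mem_ker, map_mul, map_mul] at hz
  have hU : ∀ a ∈ G.Sub G.posF, G.θ a ∈ D.posUnipotent F := fun a ha => by
    have hle : G.Sub G.posF ≤ (D.posUnipotent F).comap G.θ := G.Sub_le fun r hr t => by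
      rw [Subgroup.mem_comap, G.θ_X]
      exact C.xGL_mem_posUnipotent hr t
    exact hle ha
  have hm1 : G.θ m = 1 := by
    refine (Subgroup.eq_bot_iff_forall _).1 C.posUnipotent_inf_monomial _
      (Subgroup.mem_inf.2 ⟨?_, G.θ_mono_mem hm⟩)
    have : G.θ m = (G.θ a)⁻¹ * (G.θ b)⁻¹ := by
      rw [← mul_one (G.θ a)⁻¹, ← hz]; group
    rw [this]
    exact mul_mem (inv_mem (hU a ha)) (inv_mem (hU b hb))
  have hb' : b = a⁻¹ := by
    refine G.eq_of_mem (one_mem _) (by simpa using hb) (by simpa using inv_mem ha) ?_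
    rw [map_inv]
    rw [hm1, mul_one] at hz
    exact eq_inv_of_mul_eq_one_right hz
  have hc := G.mem_center_of_mono hadj hm hm1
  have hz' : a * m * b = m := by
    rw [hb', Subgroup.mem_center_iff.1 hc a, mul_inv_cancel_right]
  rw [hz']
  exact ⟨hm, hc⟩

theorem ker_le_center (hadj : HasNeighbours D) : G.θ.ker ≤ Subgroup.center Γ :=
  fun _ hz => (G.ker_mem hadj hz).2

end Cover

end CfsgLib.ChevCover
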