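import Cfsg.Agent.Lib.ChevCover.UniversalInstance
import Mathlib.LinearAlgebra.Matrix.SpecialLinearGroup
import Mathlib.LinearAlgebra.Matrix.GeneralLinearGroup.Defs

/-!
Projective representations in the natural characteristic lift to the group presented by (R1), (R2).
-/

set_option autoImplicit false

namespace CfsgLib.ChevCover

open Cfsg.Lie CfsgLib.ChevStr
open Cover
open scoped MatrixGroups commutatorElement

/-- Homomorphisms from a perfect group differing by central elements coincide. -/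
theorem hom_eq_of_central {Γ E G₁ : Type*} [Group Γ] [Group E] [Group G₁]
    (hperf : commutator Γ = ⊤) (π : E →* G₁) (hc : π.ker ≤ Subgroup.center E) {f g : Γ →* E}
    (h : π.comp f = π.comp g) : f = g := by
  have hker : ∀ x, f x * (g x)⁻¹ ∈ Subgroup.center E := fun x => hc (by
    rw [MonoidHom.mem_ker, map_mul, map_inv, ← MonoidHom.comp_apply, h, MonoidHom.comp_apply,
      mul_inv_cancel])
  let δ : Γ →* ↥(Subgroup.center E) :=
    MonoidHom.mk' (fun x => ⟨f x * (g x)⁻¹, hker x⟩) fun x y => Subtype.ext (by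
      show f (x * y) * (g (x * y))⁻¹ = f x * (g x)⁻¹ * (f y * (g y)⁻¹)
      rw [map_mul, map_mul, mul_inv_rev, mul_assoc (f x) (f y), ← mul_assoc (f y),
        ← Subgroup.mem_center_iff.1 (hker y) (g x)⁻¹]
      group)
  have hle : commutator Γ ≤ δ.ker := by
    rw [commutator_def, Subgroup.commutator_le]
    intro a _ b _
    rw [MonoidHom.mem_ker, map_commutatorElement, commutatorElement_eq_one_iff_commute]
    exact Subtype.ext (Subgroup.mem_center_iff.1 (δ b).2 _)
  rw [hperf] at hle
  refine MonoidHom.ext fun x => ?_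
  exact mul_inv_eq_one.1 (congrArg Subtype.val (MonoidHom.mem_ker.1 (hle (Subgroup.mem_top x))))

variable {D : ChevalleyDatum} {F : Type*} [Field F] {C : ChevCore D F} {Γ : Type*} [Group Γ]

/-- A central extension with uniquely `p`-divisible kernel has root lifts, `p` the characteristic,
and they satisfy the commutator relation. -/
theorem exists_rootLift_of_prime (G : Cover C Γ) {p : ℕ} (hp : p.Prime) [CharP F p]
    {E : Type*} [Group E] (π : E →* Γ) (hπ : Function.Surjective π)
    (hc : π.ker ≤ Subgroup.center E) (htor : ∀ z ∈ π.ker, z ^ p = 1 → z = 1)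
    (hdiv : ∀ z ∈ π.ker, ∃ w ∈ π.ker, w ^ p = z) :
    ∃ X : RootLift G E, X.π = π ∧
      ∀ r s : Fin D.nroots, s ≠ r → s ≠ G.negF r → X.Rel r s := by
  have _ := hp
  have hX : ∀ (r : Fin D.nroots) (t : F) (k : ℕ), G.X r t ^ k = G.X r ((k : F) * t) := by
    intro r t k
    induction k with
    | zero => simp [G.X_zero]
    | succ k ih => rw [_root_.pow_succ, ih, G.X_add r r.isLt, Nat.cast_succ, add_mul, one_mul]
  have huniq : ∀ {y y' : E}, π y = π y' → y ^ p = 1 → y' ^ p = 1 → y = y' := by
    intro y y' h h1 h2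
    have hz : y' * y⁻¹ ∈ π.ker := by rw [MonoidHom.mem_ker, map_mul, map_inv, h, mul_inv_cancel]
    have hcomm : Commute (y' * y⁻¹) y := (Subgroup.mem_center_iff.1 (hc hz) y).symm
    have h3 : (y' * y⁻¹ * y) ^ p = 1 := by rwa [inv_mul_cancel_right]
    rw [hcomm.mul_pow, h1, mul_one] at h3
    exact (mul_inv_eq_one.1 (htor _ hz h3)).symm
  have hex : ∀ (r : Fin D.nroots) (t : F), ∃ y, π y = G.X r t ∧ y ^ p = 1 := by
    intro r t
    obtain ⟨y, hy⟩ := hπ (G.X r t)
    obtain ⟨w, hw, hwp⟩ := hdiv (y ^ p) (by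
      rw [MonoidHom.mem_ker, map_pow, hy, hX, CharP.cast_eq_zero F p, zero_mul, G.X_zero])
    refine ⟨y * w⁻¹, by rw [map_mul, map_inv, MonoidHom.mem_ker.1 hw, inv_one, mul_one, hy], ?_⟩
    have hcomm : Commute y w⁻¹ := Subgroup.mem_center_iff.1 (hc (inv_mem hw)) y
    rw [hcomm.mul_pow, inv_pow, hwp, mul_inv_cancel]
  choose e he hep using hex
  have hadd : ∀ r t u, e r (t + u) = e r t * e r u := by
    intro r t u
    have hcom : Commute (e r t) (e r u) := by
      have hk : ⁅e r t, e r u⁆ ∈ π.ker := by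
        rw [MonoidHom.mem_ker, map_commutatorElement, he, he,
          commutatorElement_eq_one_iff_commute, Commute, SemiconjBy, G.X_add r r.isLt,
          G.X_add r r.isLt, add_comm]
      refine commutatorElement_eq_one_iff_commute.1 (htor _ hk ?_)
      have h1 : (⁅e r t, e r u⁆ * e r u) ^ p = 1 := by
        rw [commutatorElement_def, inv_mul_cancel_right, conj_pow, hep, mul_one, mul_inv_cancel]
      have hcm : Commute ⁅e r t, e r u⁆ (e r u) :=
        (Subgroup.mem_center_iff.1 (hc hk) (e r u)).symm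
      rwa [hcm.mul_pow, hep, mul_one] at h1
    refine huniq ?_ (hep r _) (by rw [hcom.mul_pow, hep, hep, mul_one])
    rw [map_mul, he, he, he, G.X_add r r.isLt]
  let X : RootLift G E := ⟨π, hc, e, he, hadd⟩
  refine ⟨X, rfl, fun r s hsr hsn => X.rel (fun r s _ _ t d hdk hadd hdef u => ?_) r s hsr hsn⟩
  refine htor _ (MonoidHom.mem_ker.2 (hdk u)) ?_
  have hd0 : d 0 = 1 := by
    have h := hadd 0 0
    rwa [add_zero, left_eq_mul] at h
  have hpow : ∀ k : ℕ, d u ^ k = d ((k : F) * u) := fun k => by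
    induction k with
    | zero => simp [hd0]
    | succ k ih => rw [_root_.pow_succ, ih, ← hadd, Nat.cast_succ, add_mul, one_mul]
  rw [hpow, CharP.cast_eq_zero F p, zero_mul, hd0]

/-- Unique lifts through central extensions with uniquely `p`-divisible kernel. -/
theorem lift_exists_of_prime (C : ChevCore D F) {p : ℕ} (hp : p.Prime) [CharP F p]
    {G₁ E : Type*} [Group G₁] [Group E] (π₁ : E →* G₁) (hπ : Function.Surjective π₁)
    (hc : π₁.ker ≤ Subgroup.center E) (htor : ∀ z ∈ π₁.ker, z ^ p = 1 → z = 1)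
    (hdiv : ∀ z ∈ π₁.ker, ∃ w ∈ π₁.ker, w ^ p = z)
    (σ : D.SteinbergCover F →* G₁) : ∃ τ : D.SteinbergCover F →* E, π₁.comp τ = σ := by
  let P : Subgroup (D.SteinbergCover F × E) :=
    (σ.comp (MonoidHom.fst _ E)).eqLocus (π₁.comp (MonoidHom.snd _ E))
  let π : P →* D.SteinbergCover F := (MonoidHom.fst _ E).comp P.subtype
  have hP : ∀ x : P, σ x.1.1 = π₁ x.1.2 := fun x => x.2
  have hsurj : Function.Surjective π := fun g => by
    obtain ⟨y, hy⟩ := hπ (σ g)
    exact ⟨⟨(g, y), hy.symm⟩, rfl⟩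
  have hk : ∀ x ∈ π.ker, x.1.1 = 1 ∧ x.1.2 ∈ π₁.ker := fun x hx => by
    have h1 : x.1.1 = 1 := hx
    exact ⟨h1, by rw [MonoidHom.mem_ker, ← hP x, h1, map_one]⟩
  have hcent : π.ker ≤ Subgroup.center P := by
    intro x hx
    rw [Subgroup.mem_center_iff]
    refine fun y => Subtype.ext (Prod.ext ?_ ?_)
    · simp [(hk x hx).1]
    · simp [Subgroup.mem_center_iff.1 (hc (hk x hx).2) y.1.2]
  obtain ⟨X, hXπ, hrel⟩ := exists_rootLift_of_prime (presented C) hp π hsurj hcent
    (fun z hz hzp => by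
      refine Subtype.ext (Prod.ext (hk z hz).1 (htor _ (hk z hz).2 ?_))
      exact congrArg (fun w : P => w.1.2) hzp)
    (fun z hz => by
      obtain ⟨w, hw, hwp⟩ := hdiv _ (hk z hz).2
      refine ⟨⟨(1, w), ?_⟩, rfl, Subtype.ext (Prod.ext ?_ ?_)⟩
      · show σ 1 = π₁ w
        rw [map_one, MonoidHom.mem_ker.1 hw]
      · simp [(hk z hz).1]
      · simpa using hwp)
  obtain ⟨τ, hτ⟩ := exists_section_of_rel X hrel
  refine ⟨(MonoidHom.snd _ E).comp (P.subtype.comp τ), MonoidHom.ext fun g => ?_⟩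
  show π₁ (τ g).1.2 = σ g
  rw [← hP]
  rw [hXπ] at hτ
  exact congrArg σ (DFunLike.congr_fun hτ g)

/-- Projective representations in the natural characteristic lift. -/
theorem proj_lift (C : ChevCore D F) (hperf : commutator (D.SteinbergCover F) = ⊤)
    {L : Type*} [Field L] {n : ℕ} {p : ℕ} (hp : p.Prime) [CharP F p] [CharP L p]
    (σ : D.SteinbergCover F →* GL (Fin n) L ⧸ Subgroup.center (GL (Fin n) L)) :
    ∃ ψ : D.SteinbergCover F →* GL (Fin n) L,
      (QuotientGroup.mk' (Subgroup.center (GL (Fin n) L))).comp ψ = σ := by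
  haveI := Fact.mk hp
  set q := QuotientGroup.mk' (Subgroup.center (GL (Fin n) L)) with hq
  set π₀ := q.comp (Matrix.SpecialLinearGroup.toGL (n := Fin n) (R := L)) with hπ₀
  have hrange : σ.range ≤ π₀.range := by
    have h1 : σ.range ≤ (commutator (GL (Fin n) L)).map q := by
      rw [MonoidHom.range_eq_map, ← hperf, commutator_def, Subgroup.map_commutator, commutator_def,
        Subgroup.map_commutator]
      exact Subgroup.commutator_mono
        (le_top.trans (Subgroup.map_top_of_surjective q (QuotientGroup.mk'_surjective _)).ge)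
        (le_top.trans (Subgroup.map_top_of_surjective q (QuotientGroup.mk'_surjective _)).ge)
    refine h1.trans ?_
    rintro x ⟨g, hg, rfl⟩
    have hdet : Matrix.GeneralLinearGroup.det g = 1 :=
      MonoidHom.mem_ker.1 (Abelianization.commutator_subset_ker Matrix.GeneralLinearGroup.det hg)
    refine ⟨⟨(g : Matrix (Fin n) (Fin n) L), ?_⟩, ?_⟩
    · simpa using congrArg Units.val hdet
    · show q _ = q g
      congr 1
      exact Units.ext rfl
  have hkey : ∀ z ∈ π₀.rangeRestrict.ker, ∃ r : L, r ^ n = 1 ∧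
      Matrix.scalar (Fin n) r = (z : Matrix (Fin n) (Fin n) L) ∧
      z ∈ Subgroup.center (Matrix.SpecialLinearGroup (Fin n) L) := by
    intro z hz
    rw [MonoidHom.ker_rangeRestrict, MonoidHom.mem_ker] at hz
    have hz' : Matrix.SpecialLinearGroup.toGL z ∈ Subgroup.center (GL (Fin n) L) := by
      rwa [hπ₀, MonoidHom.comp_apply, hq, QuotientGroup.mk'_apply, QuotientGroup.eq_one_iff] at hz
    have hzc : z ∈ Subgroup.center (Matrix.SpecialLinearGroup (Fin n) L) := by
      rw [Subgroup.mem_center_iff]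
      intro y
      have h := Subgroup.mem_center_iff.1 hz' (Matrix.SpecialLinearGroup.toGL y)
      rw [← map_mul, ← map_mul] at h
      exact Matrix.SpecialLinearGroup.toGL_injective h
    obtain ⟨r, hr, hrz⟩ := Matrix.SpecialLinearGroup.mem_center_iff.1 hzc
    exact ⟨r, by simpa using hr, hrz, hzc⟩
  have htor : ∀ z ∈ π₀.rangeRestrict.ker, z ^ p = 1 → z = 1 := by
    intro z hz hzp
    obtain ⟨r, -, hrz, -⟩ := hkey z hz
    rcases Nat.eq_zero_or_pos n with rfl | hn
    · exact Subtype.ext (Subsingleton.elim _ _)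
    refine Subtype.ext ?_
    have h1 : Matrix.scalar (Fin n) (r ^ p) = 1 := by
      rw [map_pow, hrz, ← Matrix.SpecialLinearGroup.coe_pow, hzp,
        Matrix.SpecialLinearGroup.coe_one]
    have h2 : r ^ p = 1 := by
      have h3 := congrFun (congrFun h1 ⟨0, hn⟩) ⟨0, hn⟩
      simpa using h3
    have h4 : r = 1 := by
      apply frobenius_inj L p
      rw [frobenius_def, frobenius_def, h2, one_pow]
    rw [← hrz, h4, map_one, Matrix.SpecialLinearGroup.coe_one]
  obtain ⟨τ, hτ⟩ := lift_exists_of_prime C hp π₀.rangeRestrict π₀.rangeRestrict_surjective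
    (fun z hz => by obtain ⟨r, -, -, h⟩ := hkey z hz; exact h) htor
    (fun z hz => by
      obtain ⟨r, hr, hrz, -⟩ := hkey z hz
      rcases Nat.eq_zero_or_pos n with rfl | hn
      · exact ⟨1, one_mem _, Subtype.ext (Subsingleton.elim _ _)⟩
      have hfin : z ^ n = 1 := by
        refine Subtype.ext ?_
        rw [Matrix.SpecialLinearGroup.coe_pow, ← hrz, ← map_pow, hr, map_one,
          Matrix.SpecialLinearGroup.coe_one]
      have hcop : p.Coprime (orderOf z) := by
        rw [hp.coprime_iff_not_dvd]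
        intro hdvd
        have hpos : 0 < orderOf z :=
          orderOf_pos_iff.2 (isOfFinOrder_iff_pow_eq_one.2 ⟨n, hn, hfin⟩)
        have h1 : z ^ (orderOf z / p) = 1 := htor _ (pow_mem hz _) (by
          rw [← pow_mul, Nat.div_mul_cancel hdvd, pow_orderOf_eq_one])
        have h2 := orderOf_dvd_of_pow_eq_one h1
        have h3 := Nat.div_lt_self hpos hp.one_lt
        exact absurd (Nat.le_of_dvd (Nat.div_pos (Nat.le_of_dvd hpos hdvd) hp.pos) h2) (not_le.2 h3)
      obtain ⟨m, hm⟩ := exists_pow_eq_self_of_coprime hcop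
      exact ⟨z ^ m, pow_mem hz _, by rw [← pow_mul, mul_comm, pow_mul, hm]⟩)
    (σ.codRestrict π₀.range fun x => hrange ⟨x, rfl⟩)
  refine ⟨(Matrix.SpecialLinearGroup.toGL).comp τ, MonoidHom.ext fun x => ?_⟩
  exact congrArg Subtype.val (DFunLike.congr_fun hτ x)

end CfsgLib.ChevCover
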