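import Cfsg.Agent.Lib.ChevCover.Torus

/-!
Root elements in a central extension of a group with relations (R1), (R2): once they are additive,
the commutator relation follows as soon as an additive discrepancy is forced to vanish.
-/

set_option autoImplicit false

namespace CfsgLib.ChevCover

open Cfsg.Lie CfsgLib.ChevStr
open Cover
open scoped MatrixGroups commutatorElement

variable {D : ChevalleyDatum} {F : Type*} [Field F] {C : ChevCore D F} {Γ : Type*} [Group Γ]

/-- Additive lifts of the root elements into a central extension. -/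
structure RootLift (G : Cover C Γ) (E : Type*) [Group E] where
  π : E →* Γ
  central : π.ker ≤ Subgroup.center E
  e : Fin D.nroots → F → E
  π_e : ∀ r t, π (e r t) = G.X r t
  e_add : ∀ r t u, e r (t + u) = e r t * e r u

namespace RootLift

variable {G : Cover C Γ} {E : Type*} [Group E] (X : RootLift G E)

theorem comm_of_ker {z : E} (hz : X.π z = 1) (x : E) : x * z = z * x :=
  Subgroup.mem_center_iff.1 (X.central (MonoidHom.mem_ker.2 hz)) x

theorem self_comm (r : Fin D.nroots) (t u : F) : Commute (X.e r t) (X.e r u) := by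
  rw [Commute, SemiconjBy, ← X.e_add, ← X.e_add, add_comm]

theorem e_zero (r : Fin D.nroots) : X.e r 0 = 1 := by
  have h := X.e_add r 0 0
  rwa [add_zero, left_eq_mul] at h

theorem e_inv (r : Fin D.nroots) (t : F) : (X.e r t)⁻¹ = X.e r (-t) :=
  inv_eq_of_mul_eq_one_right (by rw [← X.e_add, add_neg_cancel, X.e_zero])

/-! ### The commutator relation -/

/-- The root elements indexed by natural numbers. -/
def eN (k : ℕ) (t : F) : E := if h : k < D.nroots then X.e ⟨k, h⟩ t else 1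

theorem eN_val (k : Fin D.nroots) (t : F) : X.eN k t = X.e k t := by simp [eN, k.isLt]

/-- The word of the commutator formula. -/
def W (r s : Fin D.nroots) (t u : F) : E :=
  ((D.commWord F r s t u).map fun p => X.eN p.1 p.2).prod

theorem π_W (r s : Fin D.nroots) (t u : F) :
    X.π (X.W r s t u) = ((D.commWord F r s t u).map fun p => G.X p.1 p.2).prod := by
  rw [W, map_list_prod, List.map_map]
  congr 1
  refine List.map_congr_left fun p hp => ?_
  simp only [ChevalleyDatum.commWord, List.mem_map] at hp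
  obtain ⟨c, hc, rfl⟩ := hp
  have hk := (C.R.commTerms_spec hc).1
  simp [eN, hk, π_e]

/-- The relation (R2) in the extension. -/
def Rel (r s : Fin D.nroots) : Prop :=
  ∀ t u, X.e s u * X.e r t = X.e r t * X.e s u * X.W r s t u

/-- The positive combinations of two roots. -/
def comb (_X : RootLift G E) (r s : Fin D.nroots) : Set (Fin D.nroots) :=
  {k | C.R.IsCombo r s k}

/-- The subgroup of a set of roots. -/
def SubE (S : Set (Fin D.nroots)) : Subgroup E :=
  Subgroup.closure {g | ∃ r ∈ S, ∃ t, g = X.e r t}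

theorem e_mem_SubE {S : Set (Fin D.nroots)} {r : Fin D.nroots} (hr : r ∈ S) (t : F) :
    X.e r t ∈ X.SubE S := Subgroup.subset_closure ⟨r, hr, t, rfl⟩

theorem W_mem (r s : Fin D.nroots) (t u : F) : X.W r s t u ∈ X.SubE (X.comb r s) := by
  refine Subgroup.list_prod_mem _ fun x hx => ?_
  simp only [List.mem_map, ChevalleyDatum.commWord] at hx
  obtain ⟨p, ⟨c, hc, rfl⟩, rfl⟩ := hx
  obtain ⟨hk, ha, hb, hab⟩ := C.R.commTerms_spec hc
  rw [show X.eN c.1 _ = X.e ⟨c.1, hk⟩ _ from X.eN_val ⟨c.1, hk⟩ _]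
  exact X.e_mem_SubE (show (⟨c.1, hk⟩ : Fin D.nroots) ∈ X.comb r s from ⟨hk, _, _, ha, hb, hab⟩) _

theorem SubE_le {S : Set (Fin D.nroots)} {H : Subgroup E} (h : ∀ r ∈ S, ∀ t, X.e r t ∈ H) :
    X.SubE S ≤ H := by
  refine (Subgroup.closure_le _).2 ?_
  rintro g ⟨r, hr, t, rfl⟩
  exact h r hr t

theorem SubE_mono {S T : Set (Fin D.nroots)} (h : S ⊆ T) : X.SubE S ≤ X.SubE T :=
  X.SubE_le fun _ hr => X.e_mem_SubE (h hr)

theorem conj_mem_SubE {S : Set (Fin D.nroots)} {r : Fin D.nroots}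
    (h : ∀ s ∈ S, s = r ∨ (X.Rel r s ∧ X.comb r s ⊆ S)) (t : F) {g : E} (hg : g ∈ X.SubE S) :
    X.e r t * g * (X.e r t)⁻¹ ∈ X.SubE S := by
  have hle : X.SubE S ≤ (X.SubE S).comap (MulAut.conj (X.e r t)).toMonoidHom := by
    refine X.SubE_le fun s hs u => ?_
    show X.e r t * X.e s u * (X.e r t)⁻¹ ∈ X.SubE S
    rcases h s hs with rfl | ⟨hR, hsub⟩
    · rw [(X.self_comm s t u).eq, mul_inv_cancel_right]
      exact X.e_mem_SubE hs u
    · have h1 := hR (-t) u
      rw [← X.e_inv] at h1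
      rw [mul_assoc, h1, ← mul_assoc, ← mul_assoc, mul_inv_cancel, one_mul]
      exact mul_mem (X.e_mem_SubE hs u) (X.SubE_mono hsub (X.W_mem r s _ u))
  exact hle hg

/-- The root subgroup of the extension as a subgroup. -/
def eHom (r : Fin D.nroots) : Multiplicative F →* E where
  toFun t := X.e r t.toAdd
  map_one' := X.e_zero r
  map_mul' t u := X.e_add r _ _

theorem exists_eWd {v : Equiv.Perm (Fin D.nroots)} (hv : v ∈ C.hR.weyl) :
    ∀ L : List (Fin D.nroots), L.Pairwise (· < ·) → (∀ r ∈ L, D.IsPosRoot r) →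
      (∀ r ∈ L, ∀ s ∈ L, ∀ k : Fin D.nroots, C.R.IsCombo r s k → k ∈ L) →
      (∀ r ∈ L, ∀ s ∈ L, r < s → X.Rel (v r) (v s)) →
      ∀ g ∈ X.SubE (v '' {r | r ∈ L}),
        ∃ t : Fin D.nroots → F, g = (L.map fun k => X.e (v k) (t k)).prod := by
  intro L
  induction L with
  | nil =>
    intro _ _ _ _ g hg
    have : X.SubE (v '' {r | r ∈ ([] : List (Fin D.nroots))}) ≤ ⊥ := by
      refine X.SubE_le ?_
      rintro _ ⟨r, hr, rfl⟩
      exact absurd hr List.not_mem_nil
    exact ⟨fun _ => 0, by simpa using this hg⟩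
  | cons k L ih =>
    intro hp hpos hcl hrel g hg
    obtain ⟨hk, hpL⟩ := List.pairwise_cons.1 hp
    have hposL : ∀ r ∈ L, D.IsPosRoot r := fun r hr => hpos r (List.mem_cons_of_mem _ hr)
    have htail : ∀ r ∈ k :: L, ∀ s ∈ L, ∀ m : Fin D.nroots, C.R.IsCombo r s m → m ∈ L := by
      intro r hr s hs m hm
      have h1 := (C.R.combo_lt (hpos r hr) (hposL s hs) hm).2
      rcases List.mem_cons.1 (hcl r hr s (List.mem_cons_of_mem _ hs) m hm) with rfl | h2
      · exact absurd (hk s hs) (not_lt.2 (le_of_lt (Fin.lt_def.2 h1)))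
      · exact h2
    have hn : (X.eHom (v k)).range ≤
        Subgroup.normalizer (X.SubE (v '' {r | r ∈ L}) : Set E) := by
      rintro _ ⟨t, rfl⟩
      have hc : ∀ t, ∀ g ∈ X.SubE (v '' {r | r ∈ L}),
          X.e (v k) t * g * (X.e (v k) t)⁻¹ ∈ X.SubE (v '' {r | r ∈ L}) := fun t g hg => by
        refine X.conj_mem_SubE ?_ t hg
        rintro _ ⟨s, hs, rfl⟩
        refine Or.inr ⟨hrel k (List.mem_cons_self ..) s (List.mem_cons_of_mem _ hs) (hk s hs), ?_⟩
        intro m hm
        refine ⟨v⁻¹ m, htail k (List.mem_cons_self ..) s hs _ (combo_map hv ?_), by simp⟩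
        simpa [comb] using hm
      refine Subgroup.mem_normalizer_iff.2 fun g => ⟨fun hg => hc _ g hg, fun hg => ?_⟩
      have h1 := hc (-t.toAdd) _ hg
      rw [← X.e_inv] at h1
      simpa [eHom, mul_assoc] using h1
    have hle : X.SubE (v '' {r | r ∈ k :: L}) ≤
        (X.eHom (v k)).range ⊔ X.SubE (v '' {r | r ∈ L}) := by
      refine X.SubE_le ?_
      rintro _ ⟨r, hr, rfl⟩ t
      rcases List.mem_cons.1 hr with rfl | hr
      · exact Subgroup.mem_sup_left ⟨Multiplicative.ofAdd t, rfl⟩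
      · exact Subgroup.mem_sup_right (X.e_mem_SubE (Set.mem_image_of_mem v hr) t)
    obtain ⟨x, ⟨t0, rfl⟩, y, hy, rfl⟩ := (Set.ext_iff.1
      (Subgroup.coe_mul_of_left_le_normalizer_right _ _ hn) g).1 (hle hg)
    obtain ⟨t, rfl⟩ := ih hpL hposL (fun r hr => htail r (List.mem_cons_of_mem _ hr))
      (fun r hr s hs => hrel r (List.mem_cons_of_mem _ hr) s (List.mem_cons_of_mem _ hs)) y hy
    refine ⟨Function.update t k t0.toAdd, ?_⟩
    rw [List.map_cons, List.prod_cons, Function.update_self]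
    show X.e (v k) _ * _ = _
    congr 1
    rw [List.map_congr_left fun r hr => ?_]
    rw [Function.update_of_ne]
    rintro rfl
    exact lt_irrefl _ (hk r hr)

/-- The projection is injective on the subgroup of a closed set with the relation. -/
theorem eq_one_of_mem {v : Equiv.Perm (Fin D.nroots)} (hv : v ∈ C.hR.weyl)
    {S : Set (Fin D.nroots)} (hS : S ⊆ v '' G.posF)
    (hcl : ∀ r ∈ S, ∀ s ∈ S, X.comb r s ⊆ S)
    (hrel : ∀ r ∈ S, ∀ s ∈ S, s ≠ r → X.Rel r s) {g : E} (hg : g ∈ X.SubE S) (h : X.π g = 1) :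
    g = 1 := by
  classical
  set L : List (Fin D.nroots) :=
    (List.finRange D.nroots).filter fun r : Fin D.nroots => decide (v r ∈ S) with hL
  have hmem : ∀ r, r ∈ L ↔ v r ∈ S := fun r => by simp [hL]
  have hpos : ∀ r ∈ L, D.IsPosRoot r := fun r hr => by
    obtain ⟨q, hq, he⟩ := hS ((hmem r).1 hr)
    rwa [← v.injective he]
  have hset : v '' {r | r ∈ L} = S := by
    ext x
    refine ⟨?_, fun hx => ⟨v⁻¹ x, (hmem _).2 (by simpa using hx), by simp⟩⟩
    rintro ⟨r, hr, rfl⟩
    exact (hmem r).1 hr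
  have hcl' : ∀ r ∈ L, ∀ s ∈ L, ∀ k : Fin D.nroots, C.R.IsCombo r s k → k ∈ L := by
    intro r hr s hs k hk
    refine (hmem k).2 (hcl _ ((hmem r).1 hr) _ ((hmem s).1 hs) ?_)
    have h1 := combo_map (inv_mem hv) (r := v r) (s := v s) (k := v k) (by simpa using hk)
    exact h1
  have hp : L.Pairwise (· < ·) := (List.pairwise_lt_finRange D.nroots).filter _
  obtain ⟨t, rfl⟩ := X.exists_eWd hv L hp hpos hcl'
    (fun r hr s hs hrs => hrel _ ((hmem r).1 hr) _ ((hmem s).1 hs)
      fun he => hrs.ne' (v.injective he)) g (by rwa [hset])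
  have hπ : ∀ M : List (Fin D.nroots),
      X.π (M.map fun k => X.e (v k) (t k)).prod = G.wd v M t := fun M => by
    simp [wd, map_list_prod, List.map_map, Function.comp_def, π_e]
  rw [hπ] at h
  obtain ⟨n, -, -, c, hc⟩ := C.exists_rep hv
  let f : ℕ → F := fun k => if h : k < D.nroots then (c k : F) * t ⟨k, h⟩ else 0
  have hθ : ∀ M : List (Fin D.nroots),
      G.θ (G.wd v M t) = n * C.word (M.map Fin.val) f * n⁻¹ := by
    intro M
    induction M with
    | nil => simp [wd, C.word_nil]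
    | cons k M ih =>
      rw [G.wd_cons, map_mul, G.θ_X, ih, List.map_cons, C.word_cons]
      have h1 : n * C.xGL k (f k) * n⁻¹ = C.xGL (v k) (t k) := by
        rw [(hc k).2.2]
        congr 1
        rcases (hc k).1 with h | h <;> simp [f, h]
      rw [← h1]
      group
  have h2 : C.word (L.map Fin.val) f = C.word (L.map Fin.val) fun _ => 0 := by
    have h3 := congrArg G.θ h
    rw [hθ, map_one, mul_inv_eq_one, mul_eq_left] at h3
    rw [h3]
    have hz : ∀ M : List ℕ, C.word M (fun _ => (0 : F)) = 1 := fun M => by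
      induction M with
      | nil => exact C.word_nil _
      | cons a M ih => rw [C.word_cons, ih, C.xGL_zero, mul_one]
    rw [hz]
  have hall := C.word_injective (List.pairwise_map.2 (hp.imp fun h => h)) (fun r hr => by
    obtain ⟨a, ha, rfl⟩ := List.mem_map.1 hr
    exact hpos a ha) _ _ h2
  refine List.prod_eq_one fun x hx => ?_
  obtain ⟨k, hk, rfl⟩ := List.mem_map.1 hx
  have h4 := hall k (List.mem_map.2 ⟨k, hk, rfl⟩)
  simp only [f, k.isLt, dif_pos, Fin.eta] at h4
  have : t k = 0 := by rcases (hc k).1 with h | h <;> simpa [h] using h4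
  rw [this, X.e_zero]

/-- Two roots which are not opposite lie in a common positive system. -/
theorem exists_system (_X : RootLift G E) (r s : Fin D.nroots) (hs : s ≠ G.negF r) :
    ∃ v ∈ C.hR.weyl, r ∈ v '' G.posF ∧ s ∈ v '' G.posF := by
  obtain ⟨w, hw, i, hi⟩ := C.exists_simple_image r
  have hp : w (C.pRoot i) = r := hi
  by_cases hsr : s = r
  · exact ⟨w, hw, ⟨_, C.R.simple_pos i, hp⟩, hsr ▸ ⟨_, C.R.simple_pos i, hp⟩⟩
  obtain ⟨q, rfl⟩ := w.surjective s
  obtain ⟨e, he, hq⟩ := G.exists_side (s := q) i (fun h => hsr (by rw [h, hp]))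
    (fun h => hs (by rw [h, G.weyl_negF hw, hp]))
  rcases he with rfl | rfl
  · exact ⟨w, hw, ⟨_, C.R.simple_pos i, hp⟩, ⟨q, G.side_pos i hq, rfl⟩⟩
  · obtain ⟨v, hv, hneg⟩ := G.image_negative (mul_mem hw (C.hR.sPerm_mem i))
    refine ⟨v, hv, ?_, ?_⟩
    · have h1 := hneg (G.negF (C.pRoot i))
        ((C.R.isNeg_neg_iff (C.R.simple_lt i)).2 (C.R.simple_pos i))
      rwa [Equiv.Perm.mul_apply, G.sPerm_negF_pRoot, hp] at h1
    · have h1 := hneg (C.hR.sPerm i q) (G.side_neg i (G.side_sPerm i (-1) hq))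
      rwa [Equiv.Perm.mul_apply, C.hR.sPerm_sPerm] at h1

/-- The commutator relation holds in the extension. -/
theorem rel (hkill : ∀ r s : Fin D.nroots, s ≠ r → s ≠ G.negF r → ∀ (t : F) (d : F → E),
      (∀ u, X.π (d u) = 1) → (∀ u v, d (u + v) = d u * d v) →
      (∀ u, (X.e r t)⁻¹ * X.e s u * X.e r t = X.e s u * X.W r s t u * d u) → ∀ u, d u = 1)
    (r s : Fin D.nroots) (hsr : s ≠ r) (hsn : s ≠ G.negF r) : X.Rel r s := by
  obtain ⟨n, hn⟩ : ∃ n, (X.comb r s).ncard = n := ⟨_, rfl⟩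
  induction n using Nat.strong_induction_on generalizing r s with
  | _ n ih =>
  subst hn
  obtain ⟨v, hv, ⟨r₀, hr0, hrr⟩, ⟨s₀, hs0, hss⟩⟩ := X.exists_system r s hsn
  have hpull : ∀ {a b k : Fin D.nroots}, k ∈ X.comb (v a) (v b) → C.R.IsCombo a b (v⁻¹ k : Fin _) :=
    fun {a b k} hk => combo_map hv (by simpa [comb] using hk)
  have hS : X.comb r s ⊆ v '' G.posF := fun k hk => by
    rw [← hrr, ← hss] at hk
    exact ⟨v⁻¹ k, C.R.combo_pos hr0 hs0 (hpull hk), by simp⟩
  have hne : ∀ {a b : Fin D.nroots}, a ∈ v '' G.posF → b ∈ v '' G.posF → b ≠ G.negF a := by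
    rintro _ _ ⟨a, ha, rfl⟩ ⟨b, hb, rfl⟩ h
    rw [← G.weyl_negF hv] at h
    have h' := v.injective h
    exact C.R.not_pos_and_neg hb (by rw [h']; exact (C.R.isNeg_neg_iff a.isLt).2 ha)
  have hnot : ∀ {a b : Fin D.nroots}, a ∈ v '' G.posF → b ∈ v '' G.posF → b ∉ X.comb a b := by
    rintro _ _ ⟨a, ha, rfl⟩ ⟨b, hb, rfl⟩ h
    have := (C.R.combo_lt ha hb (hpull h)).2
    simp at this
  have hnot' : ∀ {a b : Fin D.nroots}, a ∈ v '' G.posF → b ∈ v '' G.posF → a ∉ X.comb a b := by
    rintro _ _ ⟨a, ha, rfl⟩ ⟨b, hb, rfl⟩ h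
    have := (C.R.combo_lt ha hb (hpull h)).1
    simp at this
  have hrv : r ∈ v '' G.posF := ⟨r₀, hr0, hrr⟩
  have hsv : s ∈ v '' G.posF := ⟨s₀, hs0, hss⟩
  set S := X.comb r s with hSdef
  -- combinations of members of `insert r (insert s S)` with members of `S` stay in `S`
  have hcl : ∀ a, (a = r ∨ a = s ∨ a ∈ S) → ∀ b ∈ S, X.comb a b ⊆ S := by
    intro a ha b hb k hk
    obtain ⟨-, x, y, hx, hy, hxy⟩ := hb
    obtain ⟨-, p, q, hp, hq, hpq⟩ := hk
    rcases ha with rfl | rfl | ha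
    · exact ⟨k.isLt, p + q * x, q * y, by positivity, by positivity, by
        rw [hpq, hxy]; push_cast; module⟩
    · exact ⟨k.isLt, q * x, p + q * y, by positivity, by positivity, by
        rw [hpq, hxy]; push_cast; module⟩
    · obtain ⟨-, x', y', hx', hy', hxy'⟩ := ha
      exact ⟨k.isLt, p * x' + q * x, p * y' + q * y, by positivity, by positivity, by
        rw [hpq, hxy, hxy']; push_cast; module⟩
  have hsys : ∀ a, (a = r ∨ a = s ∨ a ∈ S) → a ∈ v '' G.posF := by
    rintro a (rfl | rfl | ha)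
    exacts [hrv, hsv, hS ha]
  have hrec : ∀ a, (a = r ∨ a = s ∨ a ∈ S) → ∀ b ∈ S, b ≠ a → X.Rel a b := by
    intro a ha b hb hba
    refine ih (X.comb a b).ncard ?_ a b hba (hne (hsys a ha) (hS hb)) rfl
    refine Set.ncard_lt_ncard ⟨hcl a ha b hb, fun h => ?_⟩ (Set.toFinite _)
    exact hnot (hsys a ha) (hS hb) (h hb)
  have hinj : ∀ g ∈ X.SubE S, X.π g = 1 → g = 1 := fun g hg h =>
    X.eq_one_of_mem hv hS (fun a ha => hcl a (Or.inr (Or.inr ha)))
      (fun a ha b hb hba => hrec a (Or.inr (Or.inr ha)) b hb hba) hg h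
  have hconj : ∀ (u : F), ∀ g ∈ X.SubE S, (X.e s u)⁻¹ * g * X.e s u ∈ X.SubE S := by
    intro u g hg
    have h1 := X.conj_mem_SubE (S := S) (r := s)
      (fun b hb => Or.inr ⟨hrec s (Or.inr (Or.inl rfl)) b hb fun h =>
        hnot hrv hsv (show s ∈ X.comb r s by rwa [h] at hb), hcl s (Or.inr (Or.inl rfl)) b hb⟩) (-u) hg
    rwa [← X.e_inv, inv_inv] at h1
  -- the discrepancy
  set d : F → F → E := fun t u =>
    (X.W r s t u)⁻¹ * ((X.e s u)⁻¹ * (X.e r t)⁻¹ * X.e s u * X.e r t) with hd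
  have hdk : ∀ t u, X.π (d t u) = 1 := fun t u => by
    have h1 := G.X_comm r r.isLt s s.isLt (fun h => hsr (Fin.ext h))
      (fun h => hsn (Fin.ext h)) t u
    rw [← X.π_W] at h1
    simp only [hd, map_mul, map_inv, π_e]
    rw [mul_assoc _ (G.X s u) (G.X r t), h1]
    group
  have hdef : ∀ t u, (X.e r t)⁻¹ * X.e s u * X.e r t = X.e s u * X.W r s t u * d t u := fun t u => by
    simp only [hd]; group
  intro t u
  suffices h : d t u = 1 by
    have h1 := hdef t u
    rw [h, mul_one] at h1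
    calc X.e s u * X.e r t = X.e r t * ((X.e r t)⁻¹ * X.e s u * X.e r t) := by group
      _ = _ := by rw [h1]; group
  have hadd : ∀ a b, d t (a + b) = d t a * d t b := by
    intro a b
    set A := (X.W r s t (a + b))⁻¹ * ((X.e s b)⁻¹ * X.W r s t a * X.e s b) * X.W r s t b with hA
    have hmem : A ∈ X.SubE S :=
      mul_mem (mul_mem (inv_mem (X.W_mem r s t (a + b))) (hconj b _ (X.W_mem r s t a))) (X.W_mem r s t b)
    have heq : d t (a + b) = A * (d t a * d t b) := by
      have h1 := hdef t (a + b)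
      rw [X.e_add, show (X.e r t)⁻¹ * (X.e s a * X.e s b) * X.e r t =
          ((X.e r t)⁻¹ * X.e s a * X.e r t) * ((X.e r t)⁻¹ * X.e s b * X.e r t) by group,
        hdef, hdef, show X.e s a * X.W r s t a * d t a * (X.e s b * X.W r s t b * d t b) =
          X.e s a * X.W r s t a * (d t a * (X.e s b * X.W r s t b)) * d t b by group,
        ← X.comm_of_ker (hdk t a)] at h1
      calc d t (a + b) = (X.e s a * X.e s b * X.W r s t (a + b))⁻¹ *
            (X.e s a * X.e s b * X.W r s t (a + b) * d t (a + b)) := by group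
        _ = _ := by rw [← h1, hA]; group
    have hA1 : X.π A = 1 := by
      have h2 := congrArg X.π heq
      rw [hdk t (a + b), map_mul X.π A, map_mul X.π (d t a), hdk, hdk, mul_one, mul_one] at h2
      exact h2.symm
    rw [heq, hinj A hmem hA1, one_mul]
  exact hkill r s hsr hsn t (d t) (hdk t) hadd (hdef t) u

end RootLift

end CfsgLib.ChevCover
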