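import Cfsg.Agent.Lib.ChevCover.Torus
import Mathlib.FieldTheory.Finite.Basic
import Mathlib.RingTheory.IntegralDomain

/-!
Over a finite field the relations `h̄_r(t) h̄_r(u) = h̄_r(tu)` follow from (R1), (R2).
-/

set_option autoImplicit false

namespace CfsgLib.ChevCover

open Cfsg.Lie CfsgLib.ChevStr
open scoped MatrixGroups

variable {D : ChevalleyDatum} {F : Type*} [Field F]

/-- In a finite field of odd characteristic some nonsquare `x` has `1 - x` a nonsquare. -/
theorem exists_nonsquare_sum_one [Finite F] (h2 : ringChar F ≠ 2) :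
    ∃ x : F, ¬ IsSquare x ∧ ¬ IsSquare (1 - x) := by
  classical
  cases nonempty_fintype F
  by_contra hcon
  push Not at hcon
  set A : Finset F := Finset.univ.filter fun x => ¬ IsSquare x with hA
  set B : Finset F := Finset.univ.filter fun x => IsSquare x ∧ x ≠ 0 with hB
  have hmap : A.card ≤ (B.erase 1).card := by
    refine Finset.card_le_card_of_injOn (fun x => 1 - x) (fun x hx => ?_)
      fun x _ y _ h => sub_right_injective h
    simp only [hA, Finset.coe_filter, Finset.mem_univ, true_and, Set.mem_ofPred_eq] at hx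
    simp only [hB, Finset.coe_erase, Finset.coe_filter, Finset.mem_univ, true_and,
      Set.mem_sdiff, Set.mem_ofPred_eq, Set.mem_singleton_iff]
    refine ⟨⟨hcon x hx, fun h => hx ?_⟩, fun h => hx ?_⟩
    · rw [← sub_eq_zero.1 h]; exact IsSquare.one
    · rw [show x = 0 by linear_combination -h]; exact IsSquare.zero
  obtain ⟨g, hg⟩ := FiniteField.exists_nonsquare h2
  have hg0 : g ≠ 0 := fun h => hg (h ▸ IsSquare.zero)
  have hBA : B.card ≤ A.card := by
    refine Finset.card_le_card_of_injOn (fun x => g * x) (fun x hx => ?_)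
      fun x _ y _ h => mul_left_cancel₀ hg0 h
    simp only [hB, Finset.coe_filter, Finset.mem_univ, true_and, Set.mem_ofPred_eq] at hx
    simp only [hA, Finset.coe_filter, Finset.mem_univ, true_and, Set.mem_ofPred_eq]
    intro h
    exact hg (by simpa [mul_div_assoc, hx.2] using h.div hx.1)
  have h1 : (1 : F) ∈ B := by simp [hB]
  have := Finset.card_erase_of_mem h1
  have : 0 < B.card := Finset.card_pos.2 ⟨1, h1⟩
  omega

namespace Cover

variable {C : ChevCore D F} {Γ : Type*} [Group Γ] (G : Cover C Γ)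

theorem N_neg_one_mul_N_one (r : Fin D.nroots) : G.N r (-1) * G.N r 1 = 1 := by
  rw [← G.N_inv, inv_mul_cancel]

/-- Conjugation of the root elements of `±p` by `n̄_p(t)`, `h̄_p(t)`. -/
structure RankOneRel (i : Fin D.rank) : Prop where
  N_X : ∀ t : F, t ≠ 0 → ∀ u, G.N (C.pRoot i) t * G.X (C.pRoot i) u * (G.N (C.pRoot i) t)⁻¹ =
    G.X (G.negF (C.pRoot i)) (-(u / t ^ 2))
  H_X : ∀ t : F, t ≠ 0 → ∀ u, G.H (C.pRoot i) t * G.X (C.pRoot i) u * (G.H (C.pRoot i) t)⁻¹ =
    G.X (C.pRoot i) (t ^ 2 * u)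

theorem torusChar_self (i : Fin D.rank) (c : Fˣ) :
    C.R.torusChar (Pi.mulSingle i c) (C.R.α (C.pRoot i)) = c ^ 2 := by
  rw [C.R.torusChar_single i c (C.pRoot i).isLt]
  show c ^ D.cartan i.val (D.simple i.val) = _
  rw [C.hR.cartan_self i]
  exact zpow_ofNat c 2

theorem rankOneRel (hη : ∀ i : Fin D.rank, C.η i (D.simple i.val) = -1) (hadj : HasNeighbours D)
    (i : Fin D.rank) : G.RankOneRel i := by
  have hH : ∀ t : F, t ≠ 0 → ∀ u, G.H (C.pRoot i) t * G.X (C.pRoot i) u * (G.H (C.pRoot i) t)⁻¹ =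
      G.X (C.pRoot i) (t ^ 2 * u) := by
    intro t ht u
    have h := Nice.eq G (G.nice_H hadj i ht) (s := C.pRoot i) (u := u) (u' := t ^ 2 * u)
    rw [Equiv.Perm.one_apply] at h
    refine h ?_
    rw [G.θ_H, show C.hGL (C.pRoot i) t = C.R.torusSingle i (Units.mk0 t ht) from
        C.hGL_simple i (Units.mk0 t ht), RootData.torusSingle, C.acts_torus, torusChar_self]
    simp
  refine ⟨fun t ht u => ?_, hH⟩
  have h := Nice.eq G (G.nice_N_simple hadj i ht) (s := C.pRoot i) (u := u)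
    (u' := -(u / t ^ 2))
  rw [G.sPerm_pRoot' i] at h
  refine h ?_
  have h1 : C.nS i * C.xGL (C.pRoot i) u * (C.nS i)⁻¹ = C.xGL (D.neg (D.simple i.val)) (-u) := by
    rw [mul_inv_eq_iff_eq_mul]
    refine Units.ext ?_
    have h2 := C.n_conj i (D.simple i.val) (C.R.simple_lt i) u
    rw [C.hR.refl_simple_self, hη i] at h2
    simpa [ChevCore.pRoot] using h2
  rw [G.θ_N, show C.nGL (C.pRoot i) t = C.R.torusSingle i (Units.mk0 t ht) * C.nS i from
    C.nGL_simple i (Units.mk0 t ht)]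
  rw [show C.R.torusSingle i (Units.mk0 t ht) * C.nS i * C.xGL (C.pRoot i) u *
      (C.R.torusSingle i (Units.mk0 t ht) * C.nS i)⁻¹ =
      C.R.torusSingle i (Units.mk0 t ht) * (C.nS i * C.xGL (C.pRoot i) u * (C.nS i)⁻¹) *
        (C.R.torusSingle i (Units.mk0 t ht))⁻¹ by group, h1, RootData.torusSingle,
    C.acts_torus _ ⟨D.neg (D.simple i.val), C.R.neg_lt _ (C.R.simple_lt i)⟩]
  show C.xGL (D.neg (D.simple i.val)) _ = C.xGL (D.neg (D.simple i.val)) _
  rw [C.R.α_neg _ (C.R.simple_lt i), ← neg_one_zsmul, C.R.torusChar_zsmul, zpow_neg_one,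
    show C.R.torusChar (Pi.mulSingle i (Units.mk0 t ht)) (C.R.α (D.simple i.val)) = _ from
      torusChar_self i _]
  simp [div_eq_inv_mul]

/-- `h̄(t) h̄(s) = h̄(ts)` for `t + s = 1`. -/
theorem H_mul_of_add_eq_one {i : Fin D.rank} (hr : G.RankOneRel i) {t s : F} (ht : t ≠ 0)
    (hs : s ≠ 0) (hts : t + s = 1) :
    G.H (C.pRoot i) t * G.H (C.pRoot i) s = G.H (C.pRoot i) (t * s) := by
  set p := C.pRoot i with hp
  set q := G.negF p with hq
  have hYX : ∀ u : F, G.X q (-u⁻¹) = G.X p (-u) * G.N p u * G.X p (-u) := fun u => by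
    simp only [N, ← hq, ← G.X_inv]; group
  -- `y(-1/t) y(-1/s) = y(-1/(ts))`
  have hsum : G.X q (-t⁻¹) * G.X q (-s⁻¹) = G.X q (-(t * s)⁻¹) := by
    rw [G.X_add q q.isLt]
    congr 1
    field_simp
    linear_combination -hts
  have hmid : G.X p (-t) * G.X p (-s) = G.N p (-1) * G.X p 1 * G.X q (-1) := by
    rw [G.X_add p p.isLt, show -t + -s = (-1 : F) by linear_combination -hts]
    have : G.N p (-1) = G.X p (-1) * G.X q 1 * G.X p (-1) := by simp [N, ← hq]
    rw [this, show G.X q (-1) = (G.X q 1)⁻¹ from (G.X_inv q 1).symm,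
      show G.X p (-1) = (G.X p 1)⁻¹ from (G.X_inv p 1).symm]
    group
  have hyn : G.X q (-1) * G.N p s = G.N p s * G.X p (s ^ 2) := by
    have h := hr.N_X s hs (s ^ 2)
    rw [← hp, ← hq, div_self (pow_ne_zero 2 hs)] at h
    rw [← h]; group
  have hHX : ∀ v : F, v ≠ 0 → ∀ u, G.H p v * G.X p u = G.X p (v ^ 2 * u) * G.H p v := fun v hv u => by
    rw [← hr.H_X v hv u, ← hp]; group
  have hnq : G.N p 1 * G.X p (s ^ 2)⁻¹ = G.X q (-(s ^ 2)⁻¹) * G.N p 1 := by
    have h := hr.N_X 1 one_ne_zero (s ^ 2)⁻¹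
    rw [← hp, ← hq, one_pow, div_one] at h
    rw [← h]; group
  have hqn : G.N p 1 * G.X q (-(s ^ 2)⁻¹) = G.X p (s ^ 2)⁻¹ * G.N p 1 := by
    have h := hr.N_X (-1) (neg_ne_zero.2 one_ne_zero) (s ^ 2)⁻¹
    rw [← hp, ← hq, neg_one_sq, div_one] at h
    rw [← h, ← G.N_inv]; group
  -- expand the left hand side
  have hL : G.X q (-t⁻¹) * G.X q (-s⁻¹) =
      G.X p (-t + t ^ 2) * (G.H p t * G.H p s) * G.N p 1 * G.X p (-(t * s)) := by
    calc G.X q (-t⁻¹) * G.X q (-s⁻¹)
        = G.X p (-t) * G.N p t * (G.X p (-t) * G.X p (-s)) * G.N p s * G.X p (-s) := by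
          rw [hYX t, hYX s]; group
      _ = G.X p (-t) * (G.N p t * G.N p (-1)) * G.X p 1 * (G.X q (-1) * G.N p s) * G.X p (-s) := by
          rw [hmid]; group
      _ = G.X p (-t) * G.H p t * G.X p 1 * (G.N p s * G.X p (s ^ 2)) * G.X p (-s) := by rw [hyn]; rfl
      _ = G.X p (-t) * G.H p t * G.X p 1 * G.H p s * G.N p 1 * G.X p (s ^ 2 + -s) := by
          rw [← G.X_add p p.isLt, G.N_eq_H_mul p s]; group
      _ = G.X p (-t) * G.H p t * (G.X p 1 * G.H p s) * G.N p 1 * G.X p (-(t * s)) := by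
          rw [show s ^ 2 + -s = -(t * s) by linear_combination s * hts]; group
      _ = G.X p (-t) * G.H p t * (G.H p s * G.X p (s ^ 2)⁻¹) * G.N p 1 * G.X p (-(t * s)) := by
          rw [hHX s hs (s ^ 2)⁻¹, mul_inv_cancel₀ (pow_ne_zero 2 hs)]
      _ = G.X p (-t) * (G.H p t * G.H p s * G.X p (s ^ 2)⁻¹) * G.N p 1 * G.X p (-(t * s)) := by
          group
      _ = G.X p (-t) * (G.X p (t ^ 2) * (G.H p t * G.H p s)) * G.N p 1 * G.X p (-(t * s)) := by
          rw [mul_assoc (G.H p t), hHX s hs, mul_inv_cancel₀ (pow_ne_zero 2 hs),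
            ← mul_assoc (G.H p t), hHX t ht, mul_one]
          group
      _ = _ := by rw [← G.X_add p p.isLt]; group
  rw [hsum, hYX, G.N_eq_H_mul p (t * s),
    show -t + t ^ 2 = -(t * s) by linear_combination t * hts] at hL
  simp only [← mul_assoc, mul_left_inj] at hL
  simp only [mul_assoc, mul_right_inj] at hL
  exact hL.symm

/-- The rank one relation for products, over a finite field. -/
theorem H_mul_simple [Finite F] (hη : ∀ i : Fin D.rank, C.η i (D.simple i.val) = -1)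
    (hadj : HasNeighbours D) (i : Fin D.rank) {t u : F} (ht : t ≠ 0) (hu : u ≠ 0) :
    G.H (C.pRoot i) (t * u) = G.H (C.pRoot i) t * G.H (C.pRoot i) u := by
  classical
  cases nonempty_fintype F
  set p := C.pRoot i with hp
  have hr := G.rankOneRel hη hadj i
  -- the elements `h̄_p(t)` commute
  have hcomm : ∀ a b : F, a ≠ 0 → b ≠ 0 → G.H p a * G.H p b = G.H p b * G.H p a := by
    obtain ⟨g, hg⟩ := IsCyclic.exists_generator (α := Fˣ)
    have hform : ∀ a : F, a ≠ 0 → ∃ k : ℤ, ∃ z ∈ Subgroup.center Γ,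
        G.H p a = G.H p (g : F) ^ k * z := by
      intro a ha
      obtain ⟨k, hk⟩ := Subgroup.mem_zpowers_iff.1 (hg (Units.mk0 a ha))
      refine ⟨k, (G.H p (g : F) ^ k)⁻¹ * G.H p a,
        G.ker_le_center hadj (MonoidHom.mem_ker.2 ?_), (mul_inv_cancel_left _ _).symm⟩
      rw [map_mul, map_inv, map_zpow, G.θ_H, G.θ_H, hp,
        show C.hGL (C.pRoot i) (g : F) = C.R.torusSingle i g from C.hGL_simple i g,
        show C.hGL (C.pRoot i) a = C.R.torusSingle i (Units.mk0 a ha) from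
          C.hGL_simple i (Units.mk0 a ha), ← hk]
      have hpow : C.R.torusSingle (F := F) i (g ^ k) = C.R.torusSingle i g ^ k := by
        rw [RootData.torusSingle, RootData.torusSingle, ← map_zpow]
        congr 1
        exact (map_zpow (MonoidHom.mulSingle (fun _ : Fin D.rank => Fˣ) i) g k)
      rw [hpow, inv_mul_cancel]
    intro a b ha hb
    obtain ⟨k, z, hz, hza⟩ := hform a ha
    obtain ⟨l, w, hw, hwb⟩ := hform b hb
    have hcw := Subgroup.mem_center_iff.1 hw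
    have hcz := Subgroup.mem_center_iff.1 hz
    rw [hza, hwb]
    calc G.H p (g : F) ^ k * z * (G.H p (g : F) ^ l * w)
        = G.H p (g : F) ^ k * (z * G.H p (g : F) ^ l) * w := by group
      _ = G.H p (g : F) ^ (l + k) * (z * w) := by rw [← hcz]; group
      _ = G.H p (g : F) ^ (l + k) * (w * z) := by rw [hcw z]
      _ = G.H p (g : F) ^ l * (G.H p (g : F) ^ k * w) * z := by group
      _ = _ := by rw [hcw]; group
  -- squares split off
  have hsq : ∀ a b : F, a ≠ 0 → b ≠ 0 → G.H p (a ^ 2 * b) = G.H p (a ^ 2) * G.H p b := by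
    intro a b ha hb
    obtain ⟨x, hx, h1, h2⟩ := G.exists_coeff hadj
      (G.hbar_le_mono (G.H_mem_hbar i ha)) (G.nice_H hadj i ha) p
    have hxa : x = a ^ 2 := by
      have h := h1 1
      rw [Equiv.Perm.one_apply, hp, hr.H_X a ha 1, mul_one, mul_one] at h
      exact (G.X_injective _ h).symm
    subst hxa
    have hN : ∀ c : F, G.H p a * G.N p c * (G.H p a)⁻¹ = G.N p (a ^ 2 * c) := by
      intro c
      calc G.H p a * G.N p c * (G.H p a)⁻¹ = (G.H p a * G.X p c * (G.H p a)⁻¹) *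
            (G.H p a * G.X (G.negF p) (-c⁻¹) * (G.H p a)⁻¹) *
            (G.H p a * G.X p c * (G.H p a)⁻¹) := by simp only [N]; group
        _ = _ := by
          rw [h1, h2]
          simp only [N, Equiv.Perm.one_apply, mul_inv, mul_neg]
    have h3 : G.H p a * G.H p b * (G.H p a)⁻¹ = G.H p (a ^ 2 * b) * (G.H p (a ^ 2))⁻¹ := by
      rw [G.H_eq p b, G.H_eq p (a ^ 2 * b), G.H_eq p (a ^ 2)]
      calc G.H p a * (G.N p b * (G.N p 1)⁻¹) * (G.H p a)⁻¹
          = (G.H p a * G.N p b * (G.H p a)⁻¹) * (G.H p a * G.N p 1 * (G.H p a)⁻¹)⁻¹ := by group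
        _ = _ := by rw [hN, hN, mul_one]; group
    rw [hcomm a b ha hb, mul_inv_cancel_right] at h3
    rw [hcomm (a ^ 2) b (pow_ne_zero 2 ha) hb, h3, inv_mul_cancel_right]
  by_cases h2 : ringChar F = 2
  · obtain ⟨a, rfl⟩ := FiniteField.isSquare_of_char_two h2 t
    have ha : a ≠ 0 := fun h => ht (by simp [h])
    rw [show a * a = a ^ 2 by ring, hsq a u ha hu]
  obtain ⟨x, hx, hy⟩ := exists_nonsquare_sum_one h2
  have hx0 : x ≠ 0 := fun h => hx (h ▸ IsSquare.zero)
  have hy0 : (1 - x) ≠ 0 := fun h => hy (h ▸ IsSquare.zero)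
  have hns : ∀ b : F, b ≠ 0 → ¬ IsSquare b → ∃ a : F, a ≠ 0 ∧ b = a ^ 2 * x := by
    intro b hb hbn
    have h : IsSquare (b / x) := by
      rw [← quadraticChar_one_iff_isSquare (div_ne_zero hb hx0), div_eq_mul_inv, map_mul,
        quadraticChar_neg_one_iff_not_isSquare.2 hbn,
        quadraticChar_neg_one_iff_not_isSquare.2 (fun h => hx (by simpa using h.inv))]
      norm_num
    obtain ⟨a, ha⟩ := h
    refine ⟨a, fun h => ?_, ?_⟩
    · rw [h, mul_zero, div_eq_zero_iff] at ha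
      exact ha.elim hb hx0
    · field_simp at ha; linear_combination ha
  have hxx : G.H p (x * x) = G.H p x * G.H p x := by
    obtain ⟨a, ha, he⟩ := hns _ hy0 hy
    have h1 := G.H_mul_of_add_eq_one hr hx0 hy0 (by ring)
    rw [← hp] at h1
    rw [he, show x * (a ^ 2 * x) = a ^ 2 * (x * x) by ring,
      hsq a _ ha (mul_ne_zero hx0 hx0), hsq a _ ha hx0] at h1
    rw [← mul_assoc, hcomm x (a ^ 2) hx0 (pow_ne_zero 2 ha), mul_assoc] at h1
    exact (mul_left_cancel h1).symm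
  by_cases htsq : IsSquare t
  · obtain ⟨a, rfl⟩ := htsq
    have ha : a ≠ 0 := fun h => ht (by simp [h])
    rw [show a * a = a ^ 2 by ring, hsq a u ha hu]
  obtain ⟨a, ha, rfl⟩ := hns t ht htsq
  by_cases husq : IsSquare u
  · obtain ⟨b, rfl⟩ := husq
    have hb : b ≠ 0 := fun h => hu (by simp [h])
    rw [show a ^ 2 * x * (b * b) = b ^ 2 * (a ^ 2 * x) by ring, show b * b = b ^ 2 by ring,
      hsq b _ hb ht, hcomm _ _ ht (pow_ne_zero 2 hb)]
  obtain ⟨b, hb, rfl⟩ := hns u hu husq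
  rw [show a ^ 2 * x * (b ^ 2 * x) = (a * b) ^ 2 * (x * x) by ring,
    hsq (a * b) _ (mul_ne_zero ha hb) (mul_ne_zero hx0 hx0), mul_pow,
    hsq a (b ^ 2) ha (pow_ne_zero 2 hb), hxx, hsq a x ha hx0, hsq b x hb hx0]
  calc G.H p (a ^ 2) * G.H p (b ^ 2) * (G.H p x * G.H p x)
      = G.H p (a ^ 2) * (G.H p (b ^ 2) * G.H p x) * G.H p x := by group
    _ = G.H p (a ^ 2) * (G.H p x * G.H p (b ^ 2)) * G.H p x := by
      rw [hcomm (b ^ 2) x (pow_ne_zero 2 hb) hx0]
    _ = _ := by group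

/-- Multiplicativity of all `h̄_r` follows from that of the fundamental ones. -/
theorem H_mul_of_simple (hadj : HasNeighbours D)
    (hs : ∀ (i : Fin D.rank) (t u : F), t ≠ 0 → u ≠ 0 →
      G.H (C.pRoot i) (t * u) = G.H (C.pRoot i) t * G.H (C.pRoot i) u)
    (r : Fin D.nroots) {t u : F} (ht : t ≠ 0) (hu : u ≠ 0) :
    G.H r (t * u) = G.H r t * G.H r u := by
  obtain ⟨w, hw, k, hk⟩ := C.exists_simple_image r
  obtain ⟨n, hn, hv⟩ := G.exists_mono_rep hadj hw
  obtain ⟨a, ha, hc⟩ := G.conj_H hadj hn hv (C.pRoot k)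
  rw [show w (C.pRoot k) = r from hk] at hc
  set φ : F → Γ := fun t => n * G.H (C.pRoot k) t * n⁻¹ with hφ
  have hmul : ∀ x y : F, x ≠ 0 → y ≠ 0 → φ (x * y) = φ x * φ y := fun x y hx hy => by
    simp only [hφ, hs k x y hx hy]; group
  have hc' : ∀ x, φ x = G.H r (a * x) * (G.H r a)⁻¹ := hc
  have hra : G.H r a = (φ a⁻¹)⁻¹ := by
    rw [hc', mul_inv_cancel₀ ha, G.H_one, one_mul, inv_inv]
  have hone : φ 1 = 1 := by simp [hφ, G.H_one]
  have hinv : φ a = (φ a⁻¹)⁻¹ := eq_inv_of_mul_eq_one_left (by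
    rw [← hmul a a⁻¹ ha (inv_ne_zero ha), mul_inv_cancel₀ ha, hone])
  have heq : ∀ x : F, x ≠ 0 → G.H r x = φ x := fun x hx => by
    have h1 := hc' (x / a)
    rw [mul_div_cancel₀ x ha, hra, ← hinv] at h1
    have h2 := hmul (x / a) a (div_ne_zero hx ha) ha
    rw [div_mul_cancel₀ x ha] at h2
    rw [h2, h1, inv_mul_cancel_right]
  rw [heq _ (mul_ne_zero ht hu), heq t ht, heq u hu, hmul t u ht hu]

end Cover

end CfsgLib.ChevCover
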