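import Cfsg.Agent.Lib.ChevCover.Instance
import Cfsg.Agent.Lib.ChevCover.Symbol
import Cfsg.Agent.Lib.ChevStr.RankOne
import Cfsg.Agent.Lib.ChevStr.Derived
import Cfsg.Agent.Lib.ChevStr.TorusOrder

/-!
Steinberg's group with relations (R1), (R2), (R3) as a cover; its comparison with the group
presented by (R1), (R2) over a finite field; its centre.
-/

set_option autoImplicit false

namespace CfsgLib.ChevCover

open Cfsg.Lie CfsgLib.ChevStr
open Cover
open scoped MatrixGroups

variable {D : ChevalleyDatum} {F : Type*} [Field F] (C : ChevCore D F)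

/-- `h_r` is multiplicative in the Chevalley group. -/
theorem hGL_mul {r : ℕ} (hr : r < D.nroots) {t u : F} (ht : t ≠ 0) (hu : u ≠ 0) :
    C.hGL r (t * u) = C.hGL r t * C.hGL r u := by
  obtain ⟨w, hw, k, hk⟩ := C.exists_simple_image ⟨r, hr⟩
  obtain ⟨n, -, hact⟩ := C.exists_rep hw
  obtain ⟨e, he, hconj⟩ := C.nGL_conj hact (C.pRoot k)
  rw [show w (C.pRoot k) = ⟨r, hr⟩ from hk] at hconj
  have he0 : (e : F) ≠ 0 := by rcases he with h | h <;> simp [h]
  have hee : ∀ x : F, (e : F) * ((e : F) * x) = x := fun x => by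
    rcases he with h | h <;> simp [h]
  have key : ∀ x : Fˣ, C.hGL r (x : F) = n * C.R.torusSingle k x * n⁻¹ := by
    intro x
    rw [C.hGL_eq, show C.nGL r (x : F) = n * C.nGL (C.pRoot k) ((e : F) * x) * n⁻¹ by
        rw [hconj, hee],
      show C.nGL r (-1) = n * C.nGL (C.pRoot k) (-(e : F)) * n⁻¹ by
        rw [hconj, show (e : F) * -(e : F) = -1 by rcases he with h | h <;> simp [h]],
      C.nGL_neg,
      show C.nGL (C.pRoot k) ((e : F) * x) =
          C.R.torusSingle k (Units.mk0 _ (mul_ne_zero he0 x.ne_zero)) * C.nS k from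
        C.nGL_simple k (Units.mk0 _ (mul_ne_zero he0 x.ne_zero)),
      show C.nGL (C.pRoot k) (e : F) = C.R.torusSingle k (Units.mk0 _ he0) * C.nS k from
        C.nGL_simple k (Units.mk0 _ he0)]
    have hmul : Units.mk0 _ (mul_ne_zero he0 x.ne_zero) = x * Units.mk0 _ he0 :=
      Units.ext (mul_comm _ _)
    simp only [hmul, RootData.torusSingle, Pi.mulSingle_mul, map_mul]
    group
  have h1 := key (Units.mk0 t ht)
  have h2 := key (Units.mk0 u hu)
  have h3 := key (Units.mk0 t ht * Units.mk0 u hu)
  simp only [Units.val_mk0, Units.val_mul] at h1 h2 h3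
  rw [h1, h2, h3, RootData.torusSingle, Pi.mulSingle_mul, map_mul]
  simp only [RootData.torusSingle]
  group

theorem lift_rels :
    ∀ g ∈ D.steinbergRels F,
      FreeGroup.lift (fun p : Fin D.nroots × F => xG C p.1.val p.2) g = 1 := by
  rintro g ((hg | hg) | ⟨r, t, u, hr, ht, hu, rfl⟩)
  · exact lift_relsAB C g (Or.inl hg)
  · exact lift_relsAB C g (Or.inr hg)
  · apply Subtype.ext
    simp only [map_mul, map_inv, ChevalleyDatum.stH, Subgroup.coe_mul, Subgroup.coe_inv,
      Subgroup.coe_one, lift_stWord C]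
    rw [mul_inv_eq_one]
    exact (hGL_mul C hr ht hu).symm

/-- The projection of Steinberg's group onto the Chevalley group. -/
def groupHom : D.SteinbergGroup F →* ↥(D.group F) := PresentedGroup.toGroup (lift_rels C)

theorem groupHom_stGen (r : ℕ) (t : F) : groupHom C (D.stGen F r t) = xG C r t := by
  rw [ChevalleyDatum.stGen]
  exact lift_stX C r t

/-- Any homomorphism with the prescribed values on generators is the projection. -/
theorem eq_groupHom (θ : D.SteinbergGroup F →* ↥(D.group F))
    (hθ : ∀ (r : ℕ) (t : F), r < D.nroots →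
      ((θ (D.stGen F r t) : GL D.Idx F) : Matrix D.Idx D.Idx F) = D.x F r t) :
    θ = groupHom C := by
  refine PresentedGroup.ext fun ⟨r, t⟩ => ?_
  have h : PresentedGroup.of (rels := D.steinbergRels F) (r, t) = D.stGen F r t := by
    simp [ChevalleyDatum.stGen, ChevalleyDatum.stX, r.isLt, PresentedGroup.of]
  rw [h, groupHom_stGen C]
  exact Subtype.ext (Units.ext (hθ r t r.isLt))

/-- Steinberg's group as a cover. -/
def steinberg : Cover C (D.SteinbergGroup F) where
  X := D.stGen F
  θ := (D.group F).subtype.comp (groupHom C)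
  θ_X r t := by rw [MonoidHom.comp_apply, groupHom_stGen]; rfl
  X_add r hr t u := by
    have h := PresentedGroup.one_of_mem (rels := D.steinbergRels F)
      (x := D.stX r t * D.stX r u * (D.stX r (t + u))⁻¹) (Or.inl (Or.inl ⟨r, t, u, hr, rfl⟩))
    rw [map_mul, map_mul, map_inv, mul_inv_eq_one] at h
    exact h
  X_comm r hr s hs h1 h2 t u := by
    have h := PresentedGroup.one_of_mem (rels := D.steinbergRels F)
      (Or.inl (Or.inr ⟨r, s, t, u, hr, hs, h1, h2, rfl⟩) :
        (D.stX s u)⁻¹ * (D.stX r t)⁻¹ * D.stX s u * D.stX r t *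
          (D.stWord (D.commWord F r s t u))⁻¹ ∈ D.steinbergRels F)
    simp only [map_mul, map_inv, mul_inv_eq_one, ChevalleyDatum.stWord, map_list_prod,
      List.map_map] at h
    simp only [ChevalleyDatum.stGen, Function.comp_def] at h ⊢
    rw [← h]
    group
  gen := by
    rw [← PresentedGroup.closure_range_of]
    congr 1
    ext g
    constructor
    · rintro ⟨r, t, rfl⟩
      exact ⟨(r, t), by simp [ChevalleyDatum.stGen, ChevalleyDatum.stX, r.isLt, PresentedGroup.of]⟩
    · rintro ⟨⟨r, t⟩, rfl⟩
      exact ⟨r, t, by simp [ChevalleyDatum.stGen, ChevalleyDatum.stX, r.isLt, PresentedGroup.of]⟩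

theorem groupHom_surjective : Function.Surjective (groupHom C) := by
  intro g
  have hle : D.group F ≤ ((groupHom C).range).map (D.group F).subtype :=
    C.group_le fun r t _ => ⟨xG C r t, ⟨D.stGen F r t, groupHom_stGen C r t⟩, rfl⟩
  obtain ⟨h, ⟨z, hz⟩, he⟩ := hle g.2
  exact ⟨z, hz.trans (Subtype.ext he)⟩

theorem ker_groupHom_eq : (groupHom C).ker = (steinberg C).θ.ker := by
  ext z
  simp only [MonoidHom.mem_ker]
  exact ⟨fun h => by show ((groupHom C z : ↥(D.group F)) : GL D.Idx F) = 1; rw [h]; rfl,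
    fun h => Subtype.ext h⟩

include C in
/-- The Chevalley group has trivial centre. -/
theorem center_group_eq_bot : Subgroup.center ↥(D.group F) = ⊥ := by
  refine le_bot_iff.1 ((Subgroup.normal_le_normalCore.2 ?_).trans C.normalCore_borel_eq_bot.le)
  intro z hz
  rw [Subgroup.mem_subgroupOf]
  obtain ⟨n, hn, hmem⟩ := C.exists_bigCell z.2
  obtain ⟨b, hb, b', hb', he⟩ := C.mem_bigCell.1 hmem
  have hzU : ∀ g ∈ D.posUnipotent F, (z : GL D.Idx F) * g * (z : GL D.Idx F)⁻¹ ∈ D.posUnipotent F := by
    intro g hg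
    have hgG : g ∈ D.group F := C.borel_le_group (le_sup_left (b := D.diagonalSubgroup F) hg)
    have h1 : g * (z : GL D.Idx F) = z * g :=
      congrArg Subtype.val (Subgroup.mem_center_iff.1 hz ⟨g, hgG⟩)
    rw [← h1, mul_inv_cancel_right]
    exact hg
  have hnU : ∀ g ∈ D.posUnipotent F, n * g * n⁻¹ ∈ D.posUnipotent F := by
    intro g hg
    have hn' : n = b⁻¹ * (z : GL D.Idx F) * b'⁻¹ := by rw [he]; group
    have h1 := (Subgroup.mem_normalizer_iff.1 (C.borel_normalizes (inv_mem hb')) g).1 hg
    have h2 := hzU _ h1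
    have h3 := (Subgroup.mem_normalizer_iff.1 (C.borel_normalizes (inv_mem hb)) _).1 h2
    convert h3 using 1
    rw [hn']; group
  obtain ⟨w, hw, -⟩ := C.exists_moves hn
  have hw1 : w = 1 := C.hR.eq_one_of_invSet_eq_empty hw.1
    (Finset.eq_empty_iff_forall_notMem.2 fun s hs => by
      rw [C.hR.mem_invSet] at hs
      exact C.R.not_pos_and_neg (ChevCore.Moves.pos_of_normalizes C hw hnU s hs.1) hs.2)
  have hnd := C.mem_diagonal_of_moves_one hn (hw1 ▸ hw)
  rw [he]
  exact mul_mem (mul_mem hb (Subgroup.mem_sup_right hnd)) hb'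

theorem ker_groupHom_eq_center (hadj : HasNeighbours D) :
    (groupHom C).ker = Subgroup.center (D.SteinbergGroup F) := by
  refine le_antisymm (by rw [ker_groupHom_eq]; exact (steinberg C).ker_le_center hadj) fun z hz => ?_
  have h : groupHom C z ∈ Subgroup.center ↥(D.group F) := by
    rw [Subgroup.mem_center_iff]
    intro g
    obtain ⟨y, rfl⟩ := groupHom_surjective C g
    rw [← map_mul, ← map_mul, Subgroup.mem_center_iff.1 hz y]
  rw [center_group_eq_bot C, Subgroup.mem_bot] at h
  exact h

theorem steinberg_H (r : Fin D.nroots) (t : F) :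
    (steinberg C).H r t = PresentedGroup.mk (D.steinbergRels F) (D.stH r t) := by
  simp [Cover.H, Cover.N, Cover.negF, steinberg, ChevalleyDatum.stH, ChevalleyDatum.stWord,
    ChevalleyDatum.hWord, ChevalleyDatum.nWord, ChevalleyDatum.stGen, mul_assoc]

theorem steinberg_hbar_le (hadj : HasNeighbours D) :
    (groupHom C).ker ≤ Subgroup.closure {h | ∃ (i : ℕ) (t : F), i < D.rank ∧ t ≠ 0 ∧
      h = PresentedGroup.mk (D.steinbergRels F) (D.stH (D.simple i) t)} := by
  rw [ker_groupHom_eq]
  refine ((steinberg C).ker_le_hbar hadj).trans ((Subgroup.closure_le _).2 ?_)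
  rintro x ⟨i, t, ht, rfl⟩
  exact Subgroup.subset_closure ⟨i.val, t, i.isLt, ht, steinberg_H C _ t⟩

theorem steinberg_H_mul (r : Fin D.nroots) {t u : F} (ht : t ≠ 0) (hu : u ≠ 0) :
    (steinberg C).H r (t * u) = (steinberg C).H r t * (steinberg C).H r u := by
  rw [steinberg_H, steinberg_H, steinberg_H, ← map_mul, eq_comm, ← mul_inv_eq_one, ← map_inv,
    ← map_mul]
  exact PresentedGroup.one_of_mem (Or.inr ⟨r, t, u, r.isLt, ht, hu, rfl⟩)

/-- The torus of Steinberg's group as the image of a homomorphism. -/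
theorem exists_torusHom (hadj : HasNeighbours D) :
    ∃ φ : (Fin D.rank → Fˣ) →* D.SteinbergGroup F,
      (∀ i x, φ (Pi.mulSingle i x) = (steinberg C).H (C.pRoot i) (x : F)) ∧
        (steinberg C).hbar ≤ φ.range := by
  classical
  set G := steinberg C with hG
  let χ : Fin D.rank → Fˣ →* D.SteinbergGroup F := fun i =>
    { toFun := fun t => G.H (C.pRoot i) (t : F)
      map_one' := G.H_one _
      map_mul' := fun t u => steinberg_H_mul C _ t.ne_zero u.ne_zero }
  have hcomm : Pairwise fun i j => ∀ x y, Commute (χ i x) (χ j y) := by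
    intro i j _ x y
    obtain ⟨a, ha, hc⟩ := G.conj_H hadj (G.hbar_le_mono (G.H_mem_hbar i x.ne_zero))
      (G.nice_H hadj i x.ne_zero) (C.pRoot j)
    have h1 := hc (y : F)
    rw [Equiv.Perm.one_apply, steinberg_H_mul C _ ha y.ne_zero] at h1
    have hcyc : G.H (C.pRoot j) a * G.H (C.pRoot j) (y : F) =
        G.H (C.pRoot j) (y : F) * G.H (C.pRoot j) a := by
      rw [← steinberg_H_mul C _ ha y.ne_zero, ← steinberg_H_mul C _ y.ne_zero ha, mul_comm]
    rw [hcyc, mul_inv_cancel_right] at h1
    exact mul_inv_eq_iff_eq_mul.1 h1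
  let φ : (Fin D.rank → Fˣ) →* D.SteinbergGroup F := MonoidHom.noncommPiCoprod χ hcomm
  have hle : G.hbar ≤ φ.range := by
    refine (Subgroup.closure_le _).2 ?_
    rintro x ⟨i, t, ht, rfl⟩
    exact ⟨Pi.mulSingle i (Units.mk0 t ht), MonoidHom.noncommPiCoprod_mulSingle χ i _⟩
  exact ⟨φ, fun i x => MonoidHom.noncommPiCoprod_mulSingle χ i x, hle⟩

/-- If the torus map is injective, Steinberg's group is the Chevalley group. -/
theorem ker_groupHom_eq_bot (hadj : HasNeighbours D)
    (hinj : Function.Injective (C.R.torus (F := F))) : (groupHom C).ker = ⊥ := by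
  refine (Subgroup.eq_bot_iff_forall _).2 fun z hz => ?_
  rw [ker_groupHom_eq] at hz
  set G := steinberg C with hG
  obtain ⟨φ, hφ, hle⟩ := exists_torusHom C hadj
  obtain ⟨c, rfl⟩ := hle (G.ker_le_hbar hadj hz)
  have hθ : G.θ.comp φ = C.R.torus := by
    refine MonoidHom.pi_ext fun i x => ?_
    rw [MonoidHom.comp_apply, hφ, G.θ_H]
    exact C.hGL_simple i x
  rw [MonoidHom.mem_ker, ← MonoidHom.comp_apply, hθ, ← map_one C.R.torus] at hz
  rw [hinj hz, map_one]

/-! ### Comparison over a finite field -/

theorem presented_H (r : Fin D.nroots) (t : F) :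
    (presented C).H r t = PresentedGroup.mk (D.steinbergRelsAB F) (D.stH r t) := by
  simp [Cover.H, Cover.N, Cover.negF, presented, ChevalleyDatum.stH, ChevalleyDatum.stWord,
    ChevalleyDatum.hWord, ChevalleyDatum.nWord, ChevalleyDatum.scGen, mul_assoc]

/-- Over a finite field the presented groups coincide. -/
theorem exists_cover_equiv [Finite F] (hη : C.EtaNeg) (hadj : HasNeighbours D) :
    ∃ e : D.SteinbergCover F ≃* D.SteinbergGroup F,
      ∀ (r : ℕ) (t : F), e (D.scGen F r t) = D.stGen F r t := by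
  have h1 : ∀ g ∈ D.steinbergRelsAB F,
      FreeGroup.lift (PresentedGroup.of (rels := D.steinbergRels F)) g = 1 := by
    intro g hg
    have : FreeGroup.lift (PresentedGroup.of (rels := D.steinbergRels F)) =
        PresentedGroup.mk (D.steinbergRels F) := by
      refine FreeGroup.ext_hom _ _ fun a => ?_
      simp [PresentedGroup.of]
    rw [this]
    exact PresentedGroup.one_of_mem (Or.inl hg)
  have h2 : ∀ g ∈ D.steinbergRels F,
      FreeGroup.lift (PresentedGroup.of (rels := D.steinbergRelsAB F)) g = 1 := by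
    intro g hg
    have : FreeGroup.lift (PresentedGroup.of (rels := D.steinbergRelsAB F)) =
        PresentedGroup.mk (D.steinbergRelsAB F) := by
      refine FreeGroup.ext_hom _ _ fun a => ?_
      simp [PresentedGroup.of]
    rw [this]
    rcases hg with hg | ⟨r, t, u, hr, ht, hu, rfl⟩
    · exact PresentedGroup.one_of_mem hg
    · rw [map_mul, map_mul, map_inv, mul_inv_eq_one]
      have h := (presented C).H_mul_of_simple hadj
        (fun i x y hx hy => (presented C).H_mul_simple hη hadj i hx hy) ⟨r, hr⟩ ht hu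
      rw [presented_H, presented_H, presented_H] at h
      exact h.symm
  let f : D.SteinbergCover F →* D.SteinbergGroup F := PresentedGroup.toGroup h1
  let g : D.SteinbergGroup F →* D.SteinbergCover F := PresentedGroup.toGroup h2
  have hgf : g.comp f = MonoidHom.id _ := PresentedGroup.ext fun a => by simp [f, g]
  have hfg : f.comp g = MonoidHom.id _ := PresentedGroup.ext fun a => by simp [f, g]
  refine ⟨MonoidHom.toMulEquiv f g hgf hfg, fun r t => ?_⟩
  show f (D.scGen F r t) = _
  by_cases hr : r < D.nroots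
  · rw [show D.scGen F r t = PresentedGroup.of (rels := D.steinbergRelsAB F) (⟨r, hr⟩, t) by
      simp [ChevalleyDatum.scGen, ChevalleyDatum.stX, hr, PresentedGroup.of]]
    simp only [f, PresentedGroup.toGroup.of]
    simp [ChevalleyDatum.stGen, ChevalleyDatum.stX, hr, PresentedGroup.of]
  · simp [ChevalleyDatum.scGen, ChevalleyDatum.stGen, ChevalleyDatum.stX, hr]

/-- The torus map is injective when the Cartan matrix is unimodular. -/
theorem torus_injective_of_smith {P P' Q Q' : List (List ℤ)} {d : List ℕ}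
    (hs : smithCheck D P P' Q Q' d = true) (hd : ∀ a : Fin D.rank, d.getD a.val 0 = 1) :
    Function.Injective (C.R.torus (F := F)) := by
  simp only [smithCheck, List.all_eq_true, List.mem_finRange, true_implies, Bool.and_eq_true,
    decide_eq_true_eq, hd, Nat.cast_one, mul_one] at hs
  refine (injective_iff_map_eq_one _).2 fun c hc => ?_
  rw [C.torus_eq_one_iff] at hc
  set p := fun i j : Fin D.rank => tableEnt P i.val j.val with hp
  set p' := fun i j : Fin D.rank => tableEnt P' i.val j.val with hp'
  set q := fun i j : Fin D.rank => tableEnt Q i.val j.val with hq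
  set q' := fun i j : Fin D.rank => tableEnt Q' i.val j.val with hq'
  have hB : monMap (fun i j => D.cartan j.val (D.simple i.val)) c = monMap p (monMap q c) := by
    rw [monMap_monMap]
    congr 1
    funext i j
    exact (hs i j).1.1.1.symm
  have hP : monMap p' (monMap p (monMap q c)) = monMap q c := by
    rw [monMap_monMap]
    conv_rhs => rw [← monMap_one (monMap q c)]
    congr 1; funext i j; exact (hs i j).1.1.2
  have hQ : monMap q' (monMap q c) = c := by
    rw [monMap_monMap]
    conv_rhs => rw [← monMap_one c]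
    congr 1; funext i j; exact (hs i j).1.2
  rw [hB] at hc
  rw [← hQ, ← hP, hc, monMap_map_one, monMap_map_one]
  rfl

end CfsgLib.ChevCover
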