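import Cfsg.Agent.Lib.Chev.CertE6
import Cfsg.Agent.Lib.Chev.CertE7
import Cfsg.Agent.Lib.Chev.CertE8
import Cfsg.Agent.Lib.Chev.Tables

/-!
The root systems of types E6 and E7 inside that of type E8, with signs matching the structure
constants.
-/

set_option autoImplicit false

namespace CfsgLib.ChevCover

open Cfsg.Lie CfsgLib.Chev

/-- A map of root indices packed in bytes. -/
def embRoot (P r : ℕ) : ℕ := Nat.mod (Nat.shiftRight P (8 * r)) 256

/-- Signs given by a mask. -/
def embSign (M r : ℕ) : ℤ := bif bit M r then -1 else 1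

/-- Image of a commutator term. -/
def embTerm (P M r s : ℕ) (c : ℕ × ℤ × ℕ × ℕ) : ℕ × ℤ × ℕ × ℕ :=
  (embRoot P c.1,
    embSign M c.1 * c.2.1 * ipow (embSign M r) c.2.2.1 * ipow (embSign M s) c.2.2.2, c.2.2.1, c.2.2.2)

/-- The map preserves negatives, signs of opposite roots and commutator terms on the row of `r`. -/
noncomputable def embCheck (S T : Data) (P M r : ℕ) : Bool :=
  Nat.blt (embRoot P r) T.n && Nat.beq (embRoot P (S.row r).neg) (T.row (embRoot P r)).neg &&
  decide (embSign M (S.row r).neg = embSign M r) &&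
  allL (fun s => Nat.beq s r || Nat.beq s (S.row r).neg ||
    (!Nat.beq (embRoot P s) (embRoot P r) && !Nat.beq (embRoot P s) (T.row (embRoot P r)).neg &&
      decide (T.commFast (embRoot P r) (embRoot P s) =
        (S.commFast r s).map (embTerm P M r s)))) (List.range S.n)

/-- Packed root map of E6. -/
def embE6P : ℕ := 0xccc2bcb9b8b2afaeabaaa9a6a5a4a3a29c9998959493908f8e8d8a8988878483827f7e7b7471706d6c6b686766656261605f5c5b5a5756534d4c4b4a4946454441403d3736332d23
/-- Packed signs of E6. -/
def embE6M : ℕ := 0x0
/-- Packed root map of E7. -/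
def embE7P : ℕ := 0xe2dbd6d2cfcdccc8c5c3c2bfbdbcbab9b8b5b3b2b0afaeacabaaa9a7a6a5a4a3a29f9d9c9a99989695949391908f8e8d8b8a89888785848382807f7e7c7b7976747371706f6d6c6b6a68676665646261605f5e5c5b5a595756555352504d4c4b4a49484645444341403f3d3c3a3736353332302d2c2a272322201d19140d
/-- Packed signs of E7. -/
def embE7M : ℕ := 0x0

theorem embCheckE6 :
    allL (embCheck E6.data E8.data embE6P embE6M) (List.range 72) = true := by decide +kernel

theorem embCheckE7a :
    allL (embCheck E7.data E8.data embE7P embE7M) (List.range 63) = true := by decide +kernel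

theorem embCheckE7b :
    allL (embCheck E7.data E8.data embE7P embE7M) (List.range' 63 63) = true := by decide +kernel

theorem embSimpleE6 : ((List.finRange chevE6.rank).all fun i =>
    Nat.beq (embRoot embE6P (chevE6.simple i.val)) (chevE8.simple i.val)) = true := by decide +kernel

theorem embSimpleE7 : ((List.finRange chevE7.rank).all fun i =>
    Nat.beq (embRoot embE7P (chevE7.simple i.val)) (chevE8.simple i.val)) = true := by decide +kernel

end CfsgLib.ChevCover
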