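import Cfsg.Agent.Lib.ChevCover.Steinberg
import Cfsg.Agent.Lib.ChevCover.SubsystemTables
import Cfsg.Agent.Lib.Chev.Comm
import Cfsg.Agent.Lib.ChevStr.InstanceTables

/-!
The Steinberg groups of types E6 and E7 mapped into the Chevalley group of type E8; the order of
their centres.
-/

set_option autoImplicit false

namespace CfsgLib.ChevCover

open Cfsg.Lie CfsgLib.ChevStr CfsgLib.Chev
open Cover
open scoped MatrixGroups

variable {D E : ChevalleyDatum} {F : Type*} [Field F]

/-- A map of root systems compatible with the structure constants up to signs. -/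
structure RootEmb (D E : ChevalleyDatum) where
  ι : ℕ → ℕ
  σ : ℕ → ℤ
  lt : ∀ r < D.nroots, ι r < E.nroots
  neg : ∀ r < D.nroots, ι (D.neg r) = E.neg (ι r)
  sign : ∀ r, σ r = 1 ∨ σ r = -1
  sign_neg : ∀ r < D.nroots, σ (D.neg r) = σ r
  ne : ∀ r < D.nroots, ∀ s < D.nroots, s ≠ r → s ≠ D.neg r → ι s ≠ ι r ∧ ι s ≠ E.neg (ι r)
  comm : ∀ r < D.nroots, ∀ s < D.nroots, s ≠ r → s ≠ D.neg r →
    E.commTerms (ι r) (ι s) = (D.commTerms r s).map fun c =>
      (ι c.1, σ c.1 * c.2.1 * σ r ^ c.2.2.1 * σ s ^ c.2.2.2, c.2.2.1, c.2.2.2)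
  node : Fin D.rank → Fin E.rank
  node_inj : Function.Injective node
  simple : ∀ i : Fin D.rank, ι (D.simple i.val) = E.simple (node i).val

theorem ipow_eq_pow (c : ℤ) : ∀ k, ipow c k = c ^ k
  | 0 => by simp [ipow]
  | k + 1 => by rw [ipow, ipow_eq_pow c k, pow_succ]

/-- Build an embedding from the table checks. -/
def RootEmb.ofCheck (CD : Cert D) (CE : Cert E) (P M : ℕ)
    (h : ∀ r < D.nroots, embCheck CD.T CE.T P M r = true) (hl : D.rank ≤ E.rank)
    (hs : ((List.finRange D.rank).all fun i =>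
      Nat.beq (embRoot P (D.simple i.val)) (E.simple i.val)) = true) : RootEmb D E where
  ι := embRoot P
  σ := embSign M
  lt r hr := by
    have h1 := h r hr
    simp only [embCheck, Bool.and_eq_true, Nat.blt_eq] at h1
    exact CE.hv.hn ▸ h1.1.1.1
  neg r hr := by
    have h1 := h r hr
    simp only [embCheck, Bool.and_eq_true, Nat.blt_eq, Nat.beq_eq] at h1
    rw [← CD.hv.neg_eq r (CD.hv.hn ▸ hr), ← CE.hv.neg_eq _ h1.1.1.1]
    exact h1.1.1.2
  sign r := by unfold embSign; cases bit M r <;> simp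
  sign_neg r hr := by
    have h1 := h r hr
    simp only [embCheck, Bool.and_eq_true, decide_eq_true_eq] at h1
    rw [← CD.hv.neg_eq r (CD.hv.hn ▸ hr)]
    exact h1.1.2
  ne r hr s hs h1 h2 := by
    have hc := h r hr
    simp only [embCheck, Bool.and_eq_true, Nat.blt_eq, allL_iff, List.mem_range, Bool.or_eq_true,
      Nat.beq_eq, Bool.not_eq_true', Bool.eq_false_iff, ne_eq, decide_eq_true_eq] at hc
    rcases hc.2 s (CD.hv.hn ▸ hs) with (h3 | h3) | h3
    · exact absurd h3 h1
    · exact absurd (h3.trans (CD.hv.neg_eq r (CD.hv.hn ▸ hr))) h2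
    · exact ⟨h3.1.1, fun e => h3.1.2 (e.trans (CE.hv.neg_eq _ hc.1.1.1).symm)⟩
  comm r hr s hs h1 h2 := by
    have hc := h r hr
    simp only [embCheck, Bool.and_eq_true, Nat.blt_eq, allL_iff, List.mem_range, Bool.or_eq_true,
      Nat.beq_eq, Bool.not_eq_true', Bool.eq_false_iff, ne_eq, decide_eq_true_eq] at hc
    have hs' : embRoot P s < CE.T.n := by
      have h4 := h s hs
      simp only [embCheck, Bool.and_eq_true, Nat.blt_eq] at h4
      exact h4.1.1.1
    rcases hc.2 s (CD.hv.hn ▸ hs) with (h3 | h3) | h3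
    · exact absurd h3 h1
    · exact absurd (h3.trans (CD.hv.neg_eq r (CD.hv.hn ▸ hr))) h2
    · rw [CE.hv.commTerms_eq hc.1.1.1 hs', h3.2,
        CD.hv.commTerms_eq (CD.hv.hn ▸ hr) (CD.hv.hn ▸ hs)]
      refine List.map_congr_left fun c _ => ?_
      simp [embTerm, ipow_eq_pow]
  node := Fin.castLE hl
  node_inj := Fin.castLE_injective hl
  simple i := by
    simp only [List.all_eq_true, List.mem_finRange, true_implies, Nat.beq_eq] at hs
    exact hs i

namespace RootEmb

variable (e : RootEmb D E) (CE : ChevCore E F)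

/-- Images of the generators. -/
def gen (p : Fin D.nroots × F) : GL E.Idx F := CE.xGL (e.ι p.1) ((e.σ p.1 : F) * p.2)

theorem lift_gen_stX {r : ℕ} (hr : r < D.nroots) (t : F) :
    FreeGroup.lift (e.gen CE) (D.stX r t) = CE.xGL (e.ι r) ((e.σ r : F) * t) := by
  simp [ChevalleyDatum.stX, dif_pos hr, gen]

theorem σ_mul_self (r : ℕ) (x : F) : (e.σ r : F) * ((e.σ r : F) * x) = x := by
  rcases e.sign r with h | h <;> simp [h]

theorem lift_stN {r : ℕ} (hr : r < D.nroots) (hn : D.neg r < D.nroots) (t : F) :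
    FreeGroup.lift (e.gen CE) (D.stN r t) = CE.nGL (e.ι r) ((e.σ r : F) * t) := by
  simp only [ChevalleyDatum.stN, ChevalleyDatum.stWord, ChevalleyDatum.nWord, List.map_cons,
    List.map_nil, List.prod_cons, List.prod_nil, mul_one, map_mul, e.lift_gen_stX CE hr,
    e.lift_gen_stX CE hn, e.sign_neg r hr, e.neg r hr, ChevCore.nGL, ChevCore.wordGL]
  rcases e.sign r with h | h <;> simp [h, inv_neg]

theorem lift_stH (CD : ChevCore D F) {r : ℕ} (hr : r < D.nroots) {t : F} (ht : t ≠ 0) :
    FreeGroup.lift (e.gen CE) (D.stH r t) = CE.hGL (e.ι r) t := by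
  have hsplit : D.stH r t = D.stN r t * D.stN r (-1) := by
    simp [ChevalleyDatum.stH, ChevalleyDatum.stN, ChevalleyDatum.stWord, ChevalleyDatum.hWord,
      mul_assoc]
  rw [hsplit, map_mul, e.lift_stN CE hr (CD.R.neg_lt r hr), e.lift_stN CE hr (CD.R.neg_lt r hr)]
  set a : F := (e.σ r : F) with ha
  have ha0 : a ≠ 0 := by rcases e.sign r with h | h <;> simp [ha, h]
  have h1 : CE.nGL (e.ι r) (a * t) * CE.nGL (e.ι r) (a * -1) =
      CE.hGL (e.ι r) (a * t) * (CE.hGL (e.ι r) a)⁻¹ := by
    rw [CE.hGL_eq, CE.hGL_eq, mul_neg_one, CE.nGL_neg, CE.nGL_neg]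
    group
  rw [h1, hGL_mul CE (e.lt r hr) ha0 ht, mul_inv_eq_iff_eq_mul,
    ← hGL_mul CE (e.lt r hr) ha0 ht, ← hGL_mul CE (e.lt r hr) ht ha0, mul_comm]

theorem lift_rels (CD : ChevCore D F) :
    ∀ g ∈ D.steinbergRels F, FreeGroup.lift (e.gen CE) g = 1 := by
  rintro g ((⟨r, t, u, hr, rfl⟩ | ⟨r, s, t, u, hr, hs, h1, h2, rfl⟩) | ⟨r, t, u, hr, ht, hu, rfl⟩)
  · simp only [map_mul, map_inv, e.lift_gen_stX CE hr]
    rw [← CE.xGL_add, ← mul_add, mul_inv_cancel]
  · have hword : FreeGroup.lift (e.gen CE) (D.stWord (D.commWord F r s t u)) =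
        CE.wordGL (E.commWord F (e.ι r) (e.ι s) ((e.σ r : F) * t) ((e.σ s : F) * u)) := by
      simp only [ChevalleyDatum.stWord, map_list_prod, ChevCore.wordGL, ChevalleyDatum.commWord,
        List.map_map, e.comm r hr s hs h1 h2]
      congr 1
      refine List.map_congr_left fun c hc => ?_
      obtain ⟨hk, -, -, -⟩ := CD.R.commTerms_spec hc
      simp only [Function.comp_apply, e.lift_gen_stX CE hk]
      congr 1
      have hp : ∀ (r : ℕ) (k : ℕ), (e.σ r : F) ^ k * (e.σ r : F) ^ k = 1 := fun r k => by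
        rw [← mul_pow]
        rcases e.sign r with h | h <;> simp [h]
      push_cast
      rw [mul_pow, ← mul_neg, mul_pow]
      linear_combination (-(e.σ c.1 : F) * (c.2.1 : F) * (-t) ^ c.2.2.1 * u ^ c.2.2.2 *
        ((e.σ s : F) ^ c.2.2.2 * (e.σ s : F) ^ c.2.2.2)) * hp r c.2.2.1 +
        (-(e.σ c.1 : F) * (c.2.1 : F) * (-t) ^ c.2.2.1 * u ^ c.2.2.2) * hp s c.2.2.2
    simp only [map_mul, map_inv, e.lift_gen_stX CE hr, e.lift_gen_stX CE hs, hword]
    obtain ⟨n1, n2⟩ := e.ne r hr s hs h1 h2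
    rw [mul_assoc _ (CE.xGL (e.ι s) _) (CE.xGL (e.ι r) _),
      CE.xGL_comm (e.lt r hr) (e.lt s hs) n1 n2]
    group
  · rw [map_mul, map_mul, map_inv, e.lift_stH CE CD hr ht, e.lift_stH CE CD hr hu,
      e.lift_stH CE CD hr (mul_ne_zero ht hu), hGL_mul CE (e.lt r hr) ht hu, mul_inv_cancel]

/-- The homomorphism of Steinberg groups into the larger Chevalley group. -/
def hom (CD : ChevCore D F) : D.SteinbergGroup F →* GL E.Idx F :=
  PresentedGroup.toGroup (e.lift_rels CE CD)

theorem hom_H (CD : ChevCore D F) (i : Fin D.rank) (x : Fˣ) :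
    e.hom CE CD ((steinberg CD).H (CD.pRoot i) (x : F)) = CE.R.torusSingle (e.node i) x := by
  rw [steinberg_H, ← CE.hGL_simple, ← e.simple i]
  exact e.lift_stH CE CD (CD.R.simple_lt i) x.ne_zero

include e CE in
/-- The centre of the Steinberg group has the order of the kernel of the torus map. -/
theorem card_center (CD : ChevCore D F) (hadj : HasNeighbours D)
    (hinj : Function.Injective (CE.R.torus (F := F))) :
    Nat.card (Subgroup.center (D.SteinbergGroup F)) = Nat.card (CD.R.torus (F := F)).ker := by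
  classical
  set G := steinberg CD with hG
  obtain ⟨φ, hφ, hle⟩ := exists_torusHom CD hadj
  let ext : (Fin D.rank → Fˣ) → (Fin E.rank → Fˣ) := fun c => Function.extend e.node c 1
  have hext : ∀ c, e.hom CE CD (φ c) = CE.R.torus (ext c) := by
    let extH : (Fin D.rank → Fˣ) →* (Fin E.rank → Fˣ) :=
      MonoidHom.mk' ext fun c c' => funext fun j => by
        by_cases hj : ∃ i, e.node i = j
        · obtain ⟨i, rfl⟩ := hj
          simp [ext, e.node_inj.extend_apply]
        · simp [ext, Function.extend_apply' _ _ _ hj]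
    have h : (e.hom CE CD).comp φ = CE.R.torus.comp extH := by
      refine MonoidHom.pi_ext fun i x => ?_
      rw [MonoidHom.comp_apply, MonoidHom.comp_apply, hφ, e.hom_H, RootData.torusSingle]
      congr 1
      funext j
      by_cases hj : ∃ i, e.node i = j
      · obtain ⟨k, rfl⟩ := hj
        simp only [extH, MonoidHom.mk'_apply, ext, e.node_inj.extend_apply]
        by_cases hki : k = i
        · subst hki; simp
        · rw [Pi.mulSingle_eq_of_ne (fun h => hki (e.node_inj h)), Pi.mulSingle_eq_of_ne hki]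
      · simp only [extH, MonoidHom.mk'_apply, ext, Function.extend_apply' _ _ _ hj]
        rw [Pi.mulSingle_eq_of_ne fun h => hj ⟨i, h.symm⟩]
        rfl
    exact fun c => DFunLike.congr_fun h c
  have hφinj : Function.Injective φ := by
    refine (injective_iff_map_eq_one _).2 fun c hc => ?_
    have h1 := hext c
    rw [hc, map_one, ← map_one CE.R.torus] at h1
    funext i
    have h2 := congrFun (hinj h1) (e.node i)
    simpa [ext, e.node_inj.extend_apply] using h2.symm
  have hθ : G.θ.comp φ = CD.R.torus := by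
    refine MonoidHom.pi_ext fun i x => ?_
    rw [MonoidHom.comp_apply, hφ, G.θ_H]
    exact CD.hGL_simple i x
  have hcenter : Subgroup.center (D.SteinbergGroup F) = (CD.R.torus (F := F)).ker.map φ := by
    rw [← ker_groupHom_eq_center CD hadj, ker_groupHom_eq, ← hG]
    refine le_antisymm (fun z hz => ?_) ?_
    · obtain ⟨c, rfl⟩ := hle (G.ker_le_hbar hadj hz)
      refine ⟨c, ?_, rfl⟩
      rw [SetLike.mem_coe, MonoidHom.mem_ker, ← hθ]
      exact hz
    · rintro _ ⟨c, hc, rfl⟩
      rw [SetLike.mem_coe, MonoidHom.mem_ker] at hc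
      rw [MonoidHom.mem_ker, ← MonoidHom.comp_apply, hθ, hc]
  rw [hcenter]
  exact (Nat.card_congr (Subgroup.equivMapOfInjective _ φ hφinj).toEquiv).symm

end RootEmb

/-- The order of the kernel of the torus map from a diagonal form of the Cartan matrix. -/
theorem card_torus_ker [Fintype F] (C : ChevCore D F) {P P' Q Q' : List (List ℤ)} {d : List ℕ}
    (hs : smithCheck D P P' Q Q' d = true) :
    Nat.card (C.R.torus (F := F)).ker = ∏ a : Fin D.rank, Nat.gcd (Fintype.card F - 1) (d.getD a.val 0) := by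
  classical
  have h1 := C.card_diagonal hs
  rw [C.diagonalSubgroup_eq] at h1
  have h2 := (C.R.torus (F := F)).ker.card_mul_index
  rw [Subgroup.index_ker, Nat.card_pi, Finset.prod_const, Finset.card_univ, Fintype.card_fin,
    Nat.card_units, Nat.card_eq_fintype_card (α := F), ← h1] at h2
  exact Nat.eq_of_mul_eq_mul_right Nat.card_pos h2

/-- The embedding of E6 into E8. -/
def embE6 : RootEmb chevE6 chevE8 :=
  RootEmb.ofCheck E6.cert E8.cert embE6P embE6M
    (fun _ hr => allL_iff.1 embCheckE6 _ (List.mem_range.2 hr)) (by decide) embSimpleE6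

/-- The embedding of E7 into E8. -/
def embE7 : RootEmb chevE7 chevE8 :=
  RootEmb.ofCheck E7.cert E8.cert embE7P embE7M (fun r hr => by
    have hr' : r < 126 := hr
    by_cases h : r < 63
    · exact allL_iff.1 embCheckE7a _ (List.mem_range.2 h)
    · exact allL_iff.1 embCheckE7b _ (List.mem_range'_1.2 ⟨not_lt.1 h, by omega⟩))
    (by decide) embSimpleE7

end CfsgLib.ChevCover
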