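import Cfsg.Agent.Lib.ChevCover.Central

/-!
The elements `h̄_r(t)` of a group satisfying (R1), (R2): conjugation formulas and the fact that the
kernel of the projection lies in the subgroup generated by the `h̄_p(t)`.
-/

set_option autoImplicit false

namespace CfsgLib.ChevCover

open Cfsg.Lie CfsgLib.ChevStr
open scoped MatrixGroups

variable {D : ChevalleyDatum} {F : Type*} [Field F]

namespace Cover

variable {C : ChevCore D F} {Γ : Type*} [Group Γ] (G : Cover C Γ)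

/-- A monomial element with permutation `v` scales opposite roots inversely. -/
theorem exists_coeff (hadj : HasNeighbours D) {n : Γ} (hn : n ∈ G.mono)
    {v : Equiv.Perm (Fin D.nroots)} (hv : G.Nice n v) (s : Fin D.nroots) :
    ∃ a : F, a ≠ 0 ∧ (∀ t, n * G.X s t * n⁻¹ = G.X (v s) (a * t)) ∧
      ∀ t, n * G.X (G.negF s) t * n⁻¹ = G.X (v (G.negF s)) (a⁻¹ * t) := by
  obtain ⟨σ, hσ, -⟩ := G.exists_nice hadj hn
  have hmov := Nice.moves G hv
  obtain ⟨r, hr, hrv⟩ := C.exists_rep hv.1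
  have hdiag : r⁻¹ * G.θ n ∈ D.diagonalSubgroup F := by
    refine C.mem_diagonal_of_moves_one (mul_mem (inv_mem (C.rep_mem_monomial hr)) (G.θ_mono_mem hn)) ?_
    have h1 := ChevCore.Moves.mul C (ChevCore.Acts.moves C (ChevCore.Acts.inv C hrv)) hmov
    rwa [inv_mul_cancel] at h1
  rw [C.diagonalSubgroup_eq] at hdiag
  obtain ⟨c, hc⟩ := hdiag
  obtain ⟨-, e, he⟩ := hrv
  have hθ : ∀ (x : Fin D.nroots) (t : F), G.θ n * C.xGL x t * (G.θ n)⁻¹ =
      C.xGL (v x) ((e x : F) * (C.R.torusChar c (C.R.α x) : F) * t) := fun x t => by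
    have h1 : G.θ n = r * C.R.torus c := by rw [hc]; group
    rw [h1, show r * C.R.torus c * C.xGL x t * (r * C.R.torus c)⁻¹ =
      r * (C.R.torus c * C.xGL x t * (C.R.torus c)⁻¹) * r⁻¹ by group,
      C.acts_torus, (he x).2.2, mul_assoc]
  have hes : (e s : F) ≠ 0 := by rcases (he s).1 with h | h <;> simp [h]
  refine ⟨(e s : F) * (C.R.torusChar c (C.R.α s) : F), mul_ne_zero hes (Units.ne_zero _),
    fun t => Nice.eq G hv (hθ s t), fun t => Nice.eq G hv ?_⟩
  rw [hθ]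
  congr 1
  have hneg : e (G.negF s : Fin D.nroots) = e s := (he s).2.1
  have hchar : C.R.torusChar c (C.R.α (G.negF s : Fin D.nroots)) =
      (C.R.torusChar c (C.R.α s))⁻¹ := by
    show C.R.torusChar c (C.R.α (D.neg s)) = _
    rw [C.R.α_neg s s.isLt, ← neg_one_zsmul, C.R.torusChar_zsmul, zpow_neg_one]
  rw [hneg, hchar, Units.val_inv_eq_inv_val, mul_inv]
  rcases (he s).1 with h | h <;> simp [h]

theorem conj_N (hadj : HasNeighbours D) {n : Γ} (hn : n ∈ G.mono)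
    {v : Equiv.Perm (Fin D.nroots)} (hv : G.Nice n v) (s : Fin D.nroots) :
    ∃ a : F, a ≠ 0 ∧ ∀ t, n * G.N s t * n⁻¹ = G.N (v s) (a * t) := by
  obtain ⟨a, ha, h1, h2⟩ := G.exists_coeff hadj hn hv s
  refine ⟨a, ha, fun t => ?_⟩
  calc n * G.N s t * n⁻¹
      = (n * G.X s t * n⁻¹) * (n * G.X (G.negF s) (-t⁻¹) * n⁻¹) * (n * G.X s t * n⁻¹) := by
        simp only [N]; group
    _ = _ := by
      rw [h1, h2, G.weyl_negF hv.1]
      simp only [N, mul_inv, mul_neg]

/-- `h̄_r(t)`. -/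
def H (r : Fin D.nroots) (t : F) : Γ := G.N r t * G.N r (-1)

theorem H_eq (r : Fin D.nroots) (t : F) : G.H r t = G.N r t * (G.N r 1)⁻¹ := by rw [H, G.N_inv]

theorem H_one (r : Fin D.nroots) : G.H r 1 = 1 := by rw [G.H_eq, mul_inv_cancel]

theorem N_eq_H_mul (r : Fin D.nroots) (t : F) : G.N r t = G.H r t * G.N r 1 := by
  rw [G.H_eq, inv_mul_cancel_right]

theorem θ_H (r : Fin D.nroots) (t : F) : G.θ (G.H r t) = C.hGL r t := by
  rw [H, map_mul, G.θ_N, G.θ_N, C.hGL_eq]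

theorem nice_H (hadj : HasNeighbours D) (i : Fin D.rank) {t : F} (ht : t ≠ 0) :
    G.Nice (G.H (C.pRoot i) t) 1 := by
  have := Nice.mul G (G.nice_N_simple hadj i ht)
    (G.nice_N_simple hadj i (neg_ne_zero.2 (one_ne_zero (α := F))))
  rwa [C.hR.sPerm_mul_self i] at this

theorem conj_H (hadj : HasNeighbours D) {n : Γ} (hn : n ∈ G.mono)
    {v : Equiv.Perm (Fin D.nroots)} (hv : G.Nice n v) (s : Fin D.nroots) :
    ∃ a : F, a ≠ 0 ∧ ∀ t, n * G.H s t * n⁻¹ = G.H (v s) (a * t) * (G.H (v s) a)⁻¹ := by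
  obtain ⟨a, ha, h⟩ := G.conj_N hadj hn hv s
  refine ⟨a, ha, fun t => ?_⟩
  rw [G.H_eq, G.H_eq (v s), G.H_eq (v s) a]
  calc n * (G.N s t * (G.N s 1)⁻¹) * n⁻¹ = (n * G.N s t * n⁻¹) * (n * G.N s 1 * n⁻¹)⁻¹ := by group
    _ = _ := by rw [h, h, mul_one]; group

/-- The subgroup generated by the `h̄_p(t)`. -/
def hbar : Subgroup Γ :=
  Subgroup.closure {g | ∃ (i : Fin D.rank) (t : F), t ≠ 0 ∧ g = G.H (C.pRoot i) t}

theorem H_mem_hbar (i : Fin D.rank) {t : F} (ht : t ≠ 0) : G.H (C.pRoot i) t ∈ G.hbar :=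
  Subgroup.subset_closure ⟨i, t, ht, rfl⟩

theorem hbar_le_mono : G.hbar ≤ G.mono := by
  refine (Subgroup.closure_le _).2 ?_
  rintro x ⟨i, t, ht, rfl⟩
  exact mul_mem (G.N_mem_mono i ht) (G.N_mem_mono i (neg_ne_zero.2 one_ne_zero))

theorem nice_hbar (hadj : HasNeighbours D) {h : Γ} (hh : h ∈ G.hbar) : G.Nice h 1 := by
  refine Subgroup.closure_induction_left (p := fun h _ => G.Nice h 1) G.nice_one ?_ ?_ hh
  · rintro x ⟨i, t, ht, rfl⟩ y _ ih
    simpa using Nice.mul G (G.nice_H hadj i ht) ih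
  · rintro x ⟨i, t, ht, rfl⟩ y _ ih
    have h1 : (G.H (C.pRoot i) t)⁻¹ = G.N (C.pRoot i) 1 * G.N (C.pRoot i) (-t) := by
      rw [G.H_eq, mul_inv_rev, inv_inv, G.N_inv]
    have h2 := Nice.mul G (G.nice_N_simple hadj i (one_ne_zero (α := F)))
      (G.nice_N_simple hadj i (neg_ne_zero.2 ht))
    rw [C.hR.sPerm_mul_self i, ← h1] at h2
    simpa using Nice.mul G h2 ih

theorem N_one_mul_hbar (hadj : HasNeighbours D) (i : Fin D.rank) {h : Γ} (hh : h ∈ G.hbar) :
    ∃ h' ∈ G.hbar, G.N (C.pRoot i) 1 * h = h' * G.N (C.pRoot i) 1 := by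
  obtain ⟨a, ha, hc⟩ :=
    G.conj_N hadj (G.hbar_le_mono (inv_mem hh)) (G.nice_hbar hadj (inv_mem hh)) (C.pRoot i)
  refine ⟨h * G.H (C.pRoot i) a, mul_mem hh (G.H_mem_hbar i ha), ?_⟩
  have h1 := hc 1
  rw [Equiv.Perm.one_apply, mul_one, inv_inv] at h1
  rw [mul_assoc h, ← G.N_eq_H_mul, ← h1]
  group

/-- The product of the `n̄_p(1)` along a word. -/
def W (L : List (Fin D.rank)) : Γ := (L.map fun i => G.N (C.pRoot i) 1).prod

theorem W_cons (i : Fin D.rank) (L : List (Fin D.rank)) :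
    G.W (i :: L) = G.N (C.pRoot i) 1 * G.W L := by simp [W]

theorem W_mem_mono (L : List (Fin D.rank)) : G.W L ∈ G.mono :=
  Subgroup.list_prod_mem _ fun x hx => by
    obtain ⟨i, -, rfl⟩ := List.mem_map.1 hx
    exact G.N_mem_mono i one_ne_zero

theorem nice_W (hadj : HasNeighbours D) :
    ∀ L : List (Fin D.rank), G.Nice (G.W L) (C.hR.wordPerm L)
  | [] => G.nice_one
  | i :: L => by
    rw [G.W_cons, show C.hR.wordPerm (i :: L) = C.hR.sPerm i * C.hR.wordPerm L by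
      simp [ReflData.wordPerm]]
    exact Nice.mul G (G.nice_N_simple hadj i one_ne_zero) (nice_W hadj L)

theorem exists_hbar_W (hadj : HasNeighbours D) {m : Γ} (hm : m ∈ G.mono) :
    ∃ h ∈ G.hbar, ∃ L, m = h * G.W L := by
  have key : ∀ (i : Fin D.rank) (t : F), t ≠ 0 → ∀ y : Γ, (∃ h ∈ G.hbar, ∃ L, y = h * G.W L) →
      ∃ h ∈ G.hbar, ∃ L, G.N (C.pRoot i) t * y = h * G.W L := by
    rintro i t ht y ⟨h, hh, L, rfl⟩
    obtain ⟨h', hh', he⟩ := G.N_one_mul_hbar hadj i hh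
    refine ⟨G.H (C.pRoot i) t * h', mul_mem (G.H_mem_hbar i ht) hh', i :: L, ?_⟩
    rw [G.N_eq_H_mul _ t, mul_assoc, ← mul_assoc (G.N _ 1), he, G.W_cons]
    group
  refine Subgroup.closure_induction_left (p := fun m _ => ∃ h ∈ G.hbar, ∃ L, m = h * G.W L)
    ⟨1, one_mem _, [], by simp [W]⟩ ?_ ?_ hm
  · rintro x ⟨i, t, ht, rfl⟩ y _ ih
    exact key i t ht y ih
  · rintro x ⟨i, t, ht, rfl⟩ y _ ih
    rw [G.N_inv]
    exact key i (-t) (neg_ne_zero.2 ht) y ih

/-- The exchange condition in the group. -/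
theorem exchange_W (hadj : HasNeighbours D) (i : Fin D.rank) : ∀ L : List (Fin D.rank),
    D.IsNegRoot (C.hR.wordPerm L (C.pRoot i)) →
      ∃ L' : List (Fin D.rank), L'.length + 1 = L.length ∧
        ∃ h ∈ G.hbar, G.W L * G.N (C.pRoot i) 1 = h * G.W L' := by
  intro L
  induction L with
  | nil => exact fun h => absurd (C.R.simple_pos i) fun hp =>
      C.R.not_pos_and_neg hp (by simpa [ReflData.wordPerm, ChevCore.pRoot] using h)
  | cons k L ih =>
    intro h
    have hk : C.hR.wordPerm (k :: L) = C.hR.sPerm k * C.hR.wordPerm L := by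
      simp [ReflData.wordPerm]
    rw [hk, Equiv.Perm.mul_apply, ReflData.sPerm_val] at h
    rcases C.R.pos_or_neg (C.hR.wordPerm L (C.pRoot i)).isLt with hv | hv
    · have he : C.hR.wordPerm L (C.pRoot i) = C.pRoot k := by
        refine Fin.ext ?_
        by_contra hne
        exact C.R.not_pos_and_neg (C.hR.refl_pos k hv hne) h
      obtain ⟨a, ha, hc⟩ := G.conj_N hadj (G.W_mem_mono L) (G.nice_W hadj L) (C.pRoot i)
      have h1 := hc 1
      rw [mul_one, he] at h1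
      obtain ⟨h', hh', he'⟩ := G.N_one_mul_hbar hadj k (G.H_mem_hbar k ha)
      have h11 : G.N (C.pRoot k) 1 * G.N (C.pRoot k) 1 = (G.H (C.pRoot k) (-1))⁻¹ := by
        simp [H, mul_inv_rev, G.N_inv]
      refine ⟨L, rfl, h' * (G.H (C.pRoot k) (-1))⁻¹,
        mul_mem hh' (inv_mem (G.H_mem_hbar k (neg_ne_zero.2 one_ne_zero))), ?_⟩
      calc G.W (k :: L) * G.N (C.pRoot i) 1
          = G.N (C.pRoot k) 1 * (G.W L * G.N (C.pRoot i) 1 * (G.W L)⁻¹) * G.W L := by
            rw [G.W_cons]; group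
        _ = G.N (C.pRoot k) 1 * G.H (C.pRoot k) a * G.N (C.pRoot k) 1 * G.W L := by
            rw [h1, G.N_eq_H_mul _ a]; group
        _ = _ := by rw [he', mul_assoc h', h11]
    · obtain ⟨L', hlen, h1, hh1, he⟩ := ih hv
      obtain ⟨h', hh', he'⟩ := G.N_one_mul_hbar hadj k hh1
      refine ⟨k :: L', by simp [hlen], h', hh', ?_⟩
      rw [G.W_cons, G.W_cons, mul_assoc, he, ← mul_assoc, he', mul_assoc]

theorem mem_hbar_of_perm_one (hadj : HasNeighbours D) (L : List (Fin D.rank))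
    (hL : C.hR.wordPerm L = 1) : G.W L ∈ G.hbar := by
  obtain ⟨n, hn⟩ : ∃ n, L.length = n := ⟨_, rfl⟩
  induction n using Nat.strong_induction_on generalizing L with
  | _ n ih =>
    rcases List.eq_nil_or_concat L with rfl | ⟨L₀, i, rfl⟩
    · exact one_mem _
    · rw [List.concat_eq_append] at hL hn ⊢
      have hW : G.W (L₀ ++ [i]) = G.W L₀ * G.N (C.pRoot i) 1 := by simp [W]
      have hP : C.hR.wordPerm (L₀ ++ [i]) = C.hR.wordPerm L₀ * C.hR.sPerm i := by
        simp [ReflData.wordPerm]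
      have hneg : D.IsNegRoot (C.hR.wordPerm L₀ (C.pRoot i)) := by
        have h0 : C.hR.wordPerm L₀ = C.hR.sPerm i := by
          rw [hP] at hL
          rw [← mul_one (C.hR.wordPerm L₀), ← C.hR.sPerm_mul_self i, ← mul_assoc, hL, one_mul]
        rw [h0, C.sPerm_pRoot]
        exact (C.R.isNeg_neg_iff (C.R.simple_lt i)).2 (C.R.simple_pos i)
      obtain ⟨L', hlen, h, hh, he⟩ := G.exchange_W hadj i L₀ hneg
      rw [hW, he]
      refine mul_mem hh (ih L'.length ?_ L' ?_ rfl)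
      · simp at hn; omega
      · have h1 := Nice.moves G (Nice.mul G (G.nice_hbar hadj hh) (G.nice_W hadj L'))
        rw [← he, ← hW, one_mul] at h1
        have h2 := Nice.moves G (G.nice_W hadj (L₀ ++ [i]))
        exact (ChevCore.Moves.unique C h1 h2).trans hL

/-- The kernel of the projection lies in the subgroup generated by the `h̄_p(t)`. -/
theorem ker_le_hbar (hadj : HasNeighbours D) : G.θ.ker ≤ G.hbar := by
  intro z hz
  obtain ⟨hm, -⟩ := G.ker_mem hadj hz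
  rw [MonoidHom.mem_ker] at hz
  obtain ⟨h, hh, L, rfl⟩ := G.exists_hbar_W hadj hm
  refine mul_mem hh (G.mem_hbar_of_perm_one hadj L ?_)
  have h1 := Nice.moves G (Nice.mul G (G.nice_hbar hadj hh) (G.nice_W hadj L))
  rw [hz, one_mul] at h1
  exact ChevCore.Moves.unique C h1 (ChevCore.Acts.moves C C.acts_one)

end Cover

end CfsgLib.ChevCover
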