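import Cfsg.Agent.Lib.ChevCover.RootLift
import Mathlib.GroupTheory.Abelianization.Defs

/-!
Steinberg's argument that a central extension of a perfect group with relations (R1), (R2) has
root elements satisfying the same relations.
-/

set_option autoImplicit false

namespace CfsgLib.ChevCover

open Cfsg.Lie CfsgLib.ChevStr
open Cover
open scoped MatrixGroups commutatorElement

variable {D : ChevalleyDatum} {F : Type*} [Field F] {C : ChevCore D F} {Γ : Type*} [Group Γ]

namespace Cover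

variable (G : Cover C Γ)

/-- An element of `N̄` fixing every root. -/
def IsDiag (h : Γ) : Prop := h ∈ G.mono ∧ G.Nice h 1

/-- The character of a root on torus coordinates. -/
def chi (_G : Cover C Γ) (c : Fin D.rank → Fˣ) (r : Fin D.nroots) : F :=
  (C.R.torusChar c (C.R.α r) : F)

theorem chi_ne_zero (c : Fin D.rank → Fˣ) (r : Fin D.nroots) : G.chi c r ≠ 0 := Units.ne_zero _

theorem IsDiag.exists_torus {h : Γ} (hh : G.IsDiag h) : ∃ c, G.θ h = C.R.torus c := by
  have h1 := C.mem_diagonal_of_moves_one (G.θ_mono_mem hh.1) (Nice.moves G hh.2)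
  rw [C.diagonalSubgroup_eq] at h1
  obtain ⟨c, hc⟩ := h1
  exact ⟨c, hc.symm⟩

theorem IsDiag.scale {h : Γ} (hh : G.IsDiag h) {c : Fin D.rank → Fˣ} (hc : G.θ h = C.R.torus c)
    (r : Fin D.nroots) (t : F) : h * G.X r t * h⁻¹ = G.X r (G.chi c r * t) := by
  have h1 := Nice.eq G hh.2 (s := r) (u := t) (u' := G.chi c r * t)
  rw [Equiv.Perm.one_apply] at h1
  exact h1 (by rw [hc, C.acts_torus]; rfl)

theorem IsDiag.conj (hadj : HasNeighbours D) {n h : Γ} (hn : n ∈ G.mono) (hh : G.IsDiag h) :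
    G.IsDiag (n * h * n⁻¹) := by
  refine ⟨mul_mem (mul_mem hn hh.1) (inv_mem hn), ?_⟩
  obtain ⟨v, hv, hv'⟩ := G.exists_nice hadj hn
  simpa using Nice.mul G (Nice.mul G hv hh.2) hv'

end Cover

/-- A central extension of a perfect cover, with diagonal elements separating the roots. -/
structure CentralExt (G : Cover C Γ) (E : Type*) [Group E] where
  π : E →* Γ
  surj : Function.Surjective π
  central : π.ker ≤ Subgroup.center E
  perfect : commutator Γ = ⊤
  adj : HasNeighbours D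
  sep1 : ∀ r : Fin D.nroots, ∃ h c, G.IsDiag h ∧ G.θ h = C.R.torus c ∧ G.chi c r ≠ 1
  sep2 : ∀ r s : Fin D.nroots, s ≠ r → s ≠ G.negF r →
    ∃ h c, G.IsDiag h ∧ G.θ h = C.R.torus c ∧ G.chi c r = 1 ∧ G.chi c s ≠ 1
  self : ∀ r : Fin D.nroots,
    (∃ x : F, x * (1 - x) ≠ 1 ∧ x ≠ 0 ∧ 1 - x ≠ 0 ∧
      (∃ h c, G.IsDiag h ∧ G.θ h = C.R.torus c ∧ G.chi c r = x) ∧
      ∃ h c, G.IsDiag h ∧ G.θ h = C.R.torus c ∧ G.chi c r = 1 - x) ∨
    ∀ t : F, ∃ a b : Γ, G.X r t = ⁅a, b⁆ ∧ ∀ u, Commute (G.X r u) a ∧ Commute (G.X r u) b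

namespace CentralExt

variable {G : Cover C Γ} {E : Type*} [Group E] (X : CentralExt G E)

/-- A chosen preimage. -/
noncomputable def lift (g : Γ) : E := (X.surj g).choose

@[simp] theorem π_lift (g : Γ) : X.π (X.lift g) = g := (X.surj g).choose_spec

theorem comm_of_ker {z : E} (hz : X.π z = 1) (x : E) : x * z = z * x :=
  Subgroup.mem_center_iff.1 (X.central (MonoidHom.mem_ker.2 hz)) x

theorem exists_ker_mul {a a' : E} (h : X.π a = X.π a') : ∃ z, X.π z = 1 ∧ a' = z * a :=
  ⟨a' * a⁻¹, by rw [map_mul, map_inv, h, mul_inv_cancel], (inv_mul_cancel_right _ _).symm⟩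

theorem conj_congr {a a' : E} (h : X.π a = X.π a') (x : E) : a' * x * a'⁻¹ = a * x * a⁻¹ := by
  obtain ⟨z, hz, rfl⟩ := X.exists_ker_mul h
  rw [mul_inv_rev, show z * a * x * (a⁻¹ * z⁻¹) = z * (a * x * a⁻¹) * z⁻¹ by group,
    ← X.comm_of_ker hz, mul_inv_cancel_right]

theorem comm_congr {a a' b b' : E} (ha : X.π a = X.π a') (hb : X.π b = X.π b') :
    ⁅a, b⁆ = ⁅a', b'⁆ := by
  obtain ⟨z, hz, rfl⟩ := X.exists_ker_mul hb
  rw [commutatorElement_def, commutatorElement_def, X.conj_congr ha]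
  rw [show a * (z * b) * a⁻¹ * (z * b)⁻¹ = a * z * b * a⁻¹ * (b⁻¹ * z⁻¹) by group,
    X.comm_of_ker hz a, show z * a * b * a⁻¹ * (b⁻¹ * z⁻¹) = z * (a * b * a⁻¹ * b⁻¹) * z⁻¹ by group,
    ← X.comm_of_ker hz, mul_inv_cancel_right]

/-- A preimage of a central element is central. -/
theorem comm_of_center {z : E} (hz : X.π z ∈ Subgroup.center Γ) (x : E) : Commute z x := by
  have hker : ∀ y : E, ⁅z, y⁆ ∈ Subgroup.center E := fun y => X.central (MonoidHom.mem_ker.2 (by
    rw [map_commutatorElement, commutatorElement_eq_one_iff_commute]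
    exact (Subgroup.mem_center_iff.1 hz _).symm))
  let φ : Γ →* ↥(Subgroup.center E) :=
    MonoidHom.mk' (fun g => ⟨⁅z, X.lift g⁆, hker _⟩) fun g g' => Subtype.ext (by
      show ⁅z, X.lift (g * g')⁆ = ⁅z, X.lift g⁆ * ⁅z, X.lift g'⁆
      rw [X.comm_congr (a' := z) (b' := X.lift g * X.lift g') rfl (by simp)]
      have h1 := Subgroup.mem_center_iff.1 (hker (X.lift g')) (X.lift g)
      rw [show ⁅z, X.lift g * X.lift g'⁆ = ⁅z, X.lift g⁆ * (X.lift g * ⁅z, X.lift g'⁆ * (X.lift g)⁻¹) by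
        simp only [commutatorElement_def]; group, h1, mul_inv_cancel_right])
  have hφ : commutator Γ ≤ φ.ker := by
    rw [commutator_def, Subgroup.commutator_le]
    intro a _ b _
    rw [MonoidHom.mem_ker, map_commutatorElement, commutatorElement_eq_one_iff_commute]
    exact Subtype.ext (Subgroup.mem_center_iff.1 (φ b).2 _)
  rw [X.perfect] at hφ
  have h1 : ⁅z, X.lift (X.π x)⁆ = 1 :=
    congrArg Subtype.val (MonoidHom.mem_ker.1 (hφ (Subgroup.mem_top (X.π x))))
  rw [X.comm_congr (a' := z) (b' := x) rfl (by simp), commutatorElement_eq_one_iff_commute] at h1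
  exact h1

/-- The diagonal element used for the root `r`. -/
noncomputable def dElt (r : Fin D.nroots) : Γ := (X.sep1 r).choose

/-- Its torus coordinates. -/
noncomputable def dPar (r : Fin D.nroots) : Fin D.rank → Fˣ := (X.sep1 r).choose_spec.choose

theorem dElt_spec (r : Fin D.nroots) :
    G.IsDiag (X.dElt r) ∧ G.θ (X.dElt r) = C.R.torus (X.dPar r) ∧ G.chi (X.dPar r) r ≠ 1 :=
  (X.sep1 r).choose_spec.choose_spec

/-- The root elements of the extension. -/
noncomputable def e (r : Fin D.nroots) (t : F) : E :=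
  ⁅X.lift (X.dElt r), X.lift (G.X r (t / (G.chi (X.dPar r) r - 1)))⁆

theorem X_scaled {h : Γ} (hh : G.IsDiag h) {c : Fin D.rank → Fˣ} (hc : G.θ h = C.R.torus c)
    (r : Fin D.nroots) (t : F) : ⁅h, G.X r t⁆ = G.X r ((G.chi c r - 1) * t) := by
  rw [commutatorElement_def, IsDiag.scale G hh hc, G.X_inv, G.X_add r r.isLt]
  congr 1; ring

theorem π_e (r : Fin D.nroots) (t : F) : X.π (X.e r t) = G.X r t := by
  obtain ⟨h1, h2, h3⟩ := X.dElt_spec r
  rw [e, map_commutatorElement, π_lift, π_lift, X_scaled h1 h2, mul_div_cancel₀]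
  exact sub_ne_zero.2 h3

theorem diag_conj_e {h : Γ} (hh : G.IsDiag h) {c : Fin D.rank → Fˣ} (hc : G.θ h = C.R.torus c)
    {y : E} (hy : X.π y = h) (r : Fin D.nroots) (t : F) :
    y * X.e r t * y⁻¹ = X.e r (G.chi c r * t) := by
  obtain ⟨h1, h2, h3⟩ := X.dElt_spec r
  set d := X.dElt r with hd
  set t' := t / (G.chi (X.dPar r) r - 1) with ht'
  set z := h * d * h⁻¹ * d⁻¹ with hz
  have hzc : z ∈ Subgroup.center Γ := by
    refine G.mem_center_of_mono X.adj
      (mul_mem (mul_mem (mul_mem hh.1 h1.1) (inv_mem hh.1)) (inv_mem h1.1)) ?_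
    simp only [hz, map_mul, map_inv, hc, h2]
    simp only [← map_inv, ← map_mul]
    rw [mul_right_comm c, mul_inv_cancel, one_mul, mul_inv_cancel, map_one]
  have hb : G.chi c r * t / (G.chi (X.dPar r) r - 1) = G.chi c r * t' := mul_div_assoc _ _ _
  have hzl := X.comm_of_center (z := X.lift z) (by rw [π_lift]; exact hzc)
  unfold e
  rw [hb]
  show y * ⁅X.lift d, X.lift (G.X r t')⁆ * y⁻¹ = ⁅X.lift d, X.lift (G.X r (G.chi c r * t'))⁆
  rw [show y * ⁅X.lift d, X.lift (G.X r t')⁆ * y⁻¹ =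
      ⁅y * X.lift d * y⁻¹, y * X.lift (G.X r t') * y⁻¹⁆ by
    simp only [commutatorElement_def]; group]
  rw [X.comm_congr (a' := X.lift z * X.lift d) (b' := X.lift (G.X r (G.chi c r * t')))
    (by simp [hy, hz]) (by simp [hy, IsDiag.scale G hh hc])]
  rw [commutatorElement_def, commutatorElement_def]
  set w := X.lift (G.X r (G.chi c r * t'))
  rw [show X.lift z * X.lift d * w * (X.lift z * X.lift d)⁻¹ * w⁻¹ =
      X.lift z * (X.lift d * w * (X.lift d)⁻¹) * (X.lift z)⁻¹ * w⁻¹ by group, (hzl _).eq,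
    mul_inv_cancel_right]

theorem self_comm (r : Fin D.nroots) (t u : F) : Commute (X.e r t) (X.e r u) := by
  set f : F → F → E := fun t u => ⁅X.e r t, X.e r u⁆ with hf
  have hfk : ∀ t u, X.π (f t u) = 1 := fun t u => by
    rw [hf, map_commutatorElement, π_e, π_e, commutatorElement_eq_one_iff_commute, Commute,
      SemiconjBy, G.X_add r r.isLt, G.X_add r r.isLt, add_comm]
  suffices h : f t u = 1 from commutatorElement_eq_one_iff_commute.1 h
  rcases X.self r with hA | hB
  · obtain ⟨x, hx1, hx0, hy0, ⟨h1, c1, hh1, hc1, hx⟩, ⟨h2, c2, hh2, hc2, hy⟩⟩ := hA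
    have hr : ∀ t u v, f t (u + v) = f t u * f t v := fun t u v => by
      simp only [hf]
      rw [X.comm_congr (a' := X.e r t) (b' := X.e r u * X.e r v) rfl
        (by simp [π_e, G.X_add r r.isLt])]
      have h1 := X.comm_of_ker (hfk t v) (X.e r u)
      simp only [hf] at h1
      rw [show ⁅X.e r t, X.e r u * X.e r v⁆ =
        ⁅X.e r t, X.e r u⁆ * (X.e r u * ⁅X.e r t, X.e r v⁆ * (X.e r u)⁻¹) by
        simp only [commutatorElement_def]; group, h1, mul_inv_cancel_right]
    have hl : ∀ t u v, f (t + u) v = f u v * f t v := fun t u v => by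
      simp only [hf]
      rw [X.comm_congr (a' := X.e r t * X.e r u) (b' := X.e r v)
        (by simp [π_e, G.X_add r r.isLt]) rfl]
      have h1 := X.comm_of_ker (hfk u v) (X.e r t)
      simp only [hf] at h1
      rw [show ⁅X.e r t * X.e r u, X.e r v⁆ =
        X.e r t * ⁅X.e r u, X.e r v⁆ * (X.e r t)⁻¹ * ⁅X.e r t, X.e r v⁆ by
        simp only [commutatorElement_def]; group, h1, mul_inv_cancel_right]
    have hinv : ∀ {h c}, G.IsDiag h → G.θ h = C.R.torus c → ∀ t u,
        f t u = f (G.chi c r * t) (G.chi c r * u) := by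
      intro h c hh hc t u
      simp only [hf]
      rw [← X.diag_conj_e hh hc (X.π_lift h), ← X.diag_conj_e hh hc (X.π_lift h)]
      have h1 := X.comm_of_ker (hfk t u) (X.lift h)
      simp only [hf] at h1
      rw [show ⁅X.lift h * X.e r t * (X.lift h)⁻¹, X.lift h * X.e r u * (X.lift h)⁻¹⁆ =
        X.lift h * ⁅X.e r t, X.e r u⁆ * (X.lift h)⁻¹ by
        simp only [commutatorElement_def]; group, h1, mul_inv_cancel_right]
    set v := u / (1 / x + 1 / (1 - x) - 1) with hv
    have hk : 1 / x + 1 / (1 - x) - 1 ≠ 0 := by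
      rw [div_add_div _ _ hx0 hy0, sub_ne_zero, ne_eq, div_eq_iff (mul_ne_zero hx0 hy0), one_mul]
      intro h
      exact hx1 (by linear_combination -h)
    have h3 : f t v = f t (v / (1 - x)) * f t (v / x) := by
      conv_lhs => rw [show t = x * t + (1 - x) * t by ring, hl]
      rw [hinv hh1 hc1 t (v / x), hinv hh2 hc2 t (v / (1 - x)), hx, hy,
        mul_div_cancel₀ _ hx0, mul_div_cancel₀ _ hy0]
    rw [← hr, show v / (1 - x) + v / x = v + u by
      rw [show u = v * (1 / x + 1 / (1 - x) - 1) from (div_mul_cancel₀ u hk).symm]; ring, hr] at h3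
    exact mul_eq_left.1 h3.symm
  · obtain ⟨a, b, hab, hcomm⟩ := hB u
    have hconj : ∀ w : Γ, (∀ u, Commute (G.X r u) w) →
        X.π ⁅X.e r t, X.lift w⁆ = 1 := fun w hw => by
      rw [map_commutatorElement, π_e, π_lift, commutatorElement_eq_one_iff_commute]
      exact hw t
    simp only [hf]
    rw [X.comm_congr (a' := X.e r t) (b' := ⁅X.lift a, X.lift b⁆) rfl
      (by rw [π_e, map_commutatorElement, π_lift, π_lift, hab]),
      commutatorElement_eq_one_iff_mul_comm]
    set p := X.e r t with hp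
    have h1 : p * ⁅X.lift a, X.lift b⁆ * p⁻¹ = ⁅X.lift a, X.lift b⁆ := by
      rw [show p * ⁅X.lift a, X.lift b⁆ * p⁻¹ =
        ⁅p * X.lift a * p⁻¹, p * X.lift b * p⁻¹⁆ by simp only [commutatorElement_def]; group]
      refine X.comm_congr ?_ ?_
      · have := hconj a fun u => (hcomm u).1
        rwa [commutatorElement_def, map_mul, map_inv, mul_inv_eq_one] at this
      · have := hconj b fun u => (hcomm u).2
        rwa [commutatorElement_def, map_mul, map_inv, mul_inv_eq_one] at this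
    rwa [mul_inv_eq_iff_eq_mul] at h1

theorem e_add (r : Fin D.nroots) (t u : F) : X.e r (t + u) = X.e r t * X.e r u := by
  set k := G.chi (X.dPar r) r - 1 with hk
  unfold e
  rw [← hk, add_div, X.comm_congr (a' := X.lift (X.dElt r))
    (b' := X.lift (G.X r (t / k)) * X.lift (G.X r (u / k))) rfl
    (by simp [G.X_add r r.isLt])]
  set d := X.lift (X.dElt r)
  set a := X.lift (G.X r (t / k)) with ha
  set b := X.lift (G.X r (u / k))
  have h1 : a * ⁅d, b⁆ * a⁻¹ = ⁅d, b⁆ := by
    rw [X.conj_congr (a := X.e r (t / k)) (a' := a) (by simp [π_e, ha]), mul_inv_eq_iff_eq_mul]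
    exact (X.self_comm r (t / k) u).eq
  rw [show ⁅d, a * b⁆ = ⁅d, a⁆ * (a * ⁅d, b⁆ * a⁻¹) by simp only [commutatorElement_def]; group, h1]

theorem e_zero (r : Fin D.nroots) : X.e r 0 = 1 := by
  have h := X.e_add r 0 0
  rwa [add_zero, left_eq_mul] at h

theorem e_inv (r : Fin D.nroots) (t : F) : (X.e r t)⁻¹ = X.e r (-t) :=
  inv_eq_of_mul_eq_one_right (by rw [← X.e_add, add_neg_cancel, X.e_zero])

theorem e_eq_comm {h : Γ} (hh : G.IsDiag h) {c : Fin D.rank → Fˣ} (hc : G.θ h = C.R.torus c)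
    (r : Fin D.nroots) (hr : G.chi c r ≠ 1) {t : F} {y x : E} (hy : X.π y = h)
    (hx : X.π x = G.X r (t / (G.chi c r - 1))) : ⁅y, x⁆ = X.e r t := by
  rw [X.comm_congr (a' := y) (b' := X.e r (t / (G.chi c r - 1))) rfl (by rw [hx, π_e]),
    commutatorElement_def, X.diag_conj_e hh hc hy, X.e_inv, ← X.e_add]
  congr 1
  have := sub_ne_zero.2 hr
  field_simp
  ring

/-- Equivariance under `N̄`. -/
theorem conj_e {g : Γ} (hg : g ∈ G.mono) {r r' : Fin D.nroots} {a : F} (ha : a ≠ 0)
    (h : ∀ t, g * G.X r t * g⁻¹ = G.X r' (a * t)) {y : E} (hy : X.π y = g) (t : F) :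
    y * X.e r t * y⁻¹ = X.e r' (a * t) := by
  obtain ⟨h1, h2, h3⟩ := X.dElt_spec r
  have hd := IsDiag.conj G X.adj hg h1
  obtain ⟨c, hc⟩ := IsDiag.exists_torus G hd
  have hchi : G.chi c r' = G.chi (X.dPar r) r := by
    have e1 := IsDiag.scale G hd hc r' (a * 1)
    rw [← h, show g * X.dElt r * g⁻¹ * (g * G.X r 1 * g⁻¹) * (g * X.dElt r * g⁻¹)⁻¹ =
      g * (X.dElt r * G.X r 1 * (X.dElt r)⁻¹) * g⁻¹ by group, IsDiag.scale G h1 h2, h] at e1
    have e2 := G.X_injective r' e1
    rw [mul_one, mul_one] at e2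
    exact mul_right_cancel₀ ha (by rw [← e2, mul_comm])
  unfold e
  rw [show y * ⁅X.lift (X.dElt r), X.lift (G.X r (t / (G.chi (X.dPar r) r - 1)))⁆ * y⁻¹ =
      ⁅y * X.lift (X.dElt r) * y⁻¹,
        y * X.lift (G.X r (t / (G.chi (X.dPar r) r - 1))) * y⁻¹⁆ by
    simp only [commutatorElement_def]; group]
  exact X.e_eq_comm hd hc r' (by rwa [hchi]) (by simp [hy])
    (by rw [map_mul, map_mul, map_inv, π_lift, hy, h, hchi, mul_div_assoc])

/-- The root lift given by the commutators. -/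
noncomputable def rootLift : RootLift G E where
  π := X.π
  central := X.central
  e := X.e
  π_e := X.π_e
  e_add := X.e_add

/-- The commutator relation holds in the extension. -/
theorem rel (r s : Fin D.nroots) (hsr : s ≠ r) (hsn : s ≠ G.negF r) : X.rootLift.Rel r s := by
  refine X.rootLift.rel (fun r s hsr hsn t d hdk hadd hdef u => ?_) r s hsr hsn
  obtain ⟨h, c, hh, hc, hcr, hcs⟩ := X.sep2 r s hsr hsn
  have hinv : ∀ a, d a = d (G.chi c s * a) := by
    intro a
    set y := X.lift h with hy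
    have hc' : ∀ (k : Fin D.nroots) (x : F), y * X.rootLift.e k x * y⁻¹ = X.rootLift.e k (G.chi c k * x) :=
      fun k x => X.diag_conj_e hh hc (X.π_lift h) k x
    have hW : y * X.rootLift.W r s t a * y⁻¹ = X.rootLift.W r s t (G.chi c s * a) := by
      simp only [RootLift.W, ChevalleyDatum.commWord, List.map_map]
      rw [show ∀ l : List E, y * l.prod * y⁻¹ = (l.map fun x => y * x * y⁻¹).prod from fun l =>
        map_list_prod (MulAut.conj y).toMonoidHom l, List.map_map]
      congr 1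
      refine List.map_congr_left fun k hk => ?_
      obtain ⟨hk1, -, -, hab⟩ := C.R.commTerms_spec hk
      have hck : G.chi c ⟨k.1, hk1⟩ = G.chi c r ^ k.2.2.1 * G.chi c s ^ k.2.2.2 := by
        simp only [chi, hab, C.R.torusChar_add, C.R.torusChar_zsmul, zpow_natCast, Units.val_mul,
          Units.val_pow_eq_pow_val]
      simp only [Function.comp_apply, RootLift.eN, dif_pos hk1, hc', hck, hcr, one_pow, one_mul]
      congr 1
      ring
    have h1 := hdef a
    have h2 := congrArg (fun x => y * x * y⁻¹) h1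
    rw [show y * ((X.rootLift.e r t)⁻¹ * X.rootLift.e s a * X.rootLift.e r t) * y⁻¹ =
        (y * X.rootLift.e r t * y⁻¹)⁻¹ * (y * X.rootLift.e s a * y⁻¹) * (y * X.rootLift.e r t * y⁻¹) by group,
      show y * (X.rootLift.e s a * X.rootLift.W r s t a * d a) * y⁻¹ =
        (y * X.rootLift.e s a * y⁻¹) * (y * X.rootLift.W r s t a * y⁻¹) * (y * d a * y⁻¹) by group,
      hc', hc', hW, hcr, one_mul, hdef, X.rootLift.comm_of_ker (hdk a) y, mul_inv_cancel_right] at h2
    exact (mul_left_cancel h2).symm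
  have h3 := hinv (u / (G.chi c s - 1))
  have h4 : G.chi c s * (u / (G.chi c s - 1)) = u / (G.chi c s - 1) + u := by
    have := sub_ne_zero.2 hcs
    field_simp
    ring
  rw [h4, hadd] at h3
  exact mul_eq_left.1 h3.symm

end CentralExt

end CfsgLib.ChevCover
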